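import Mathlib.Data.Nat.Notation

/-!
# Conjugators of the fixed-point-free involutions of the centraliser, and a basis of the kernel of the octad
-/

set_option autoImplicit false

namespace Cfsg.Agent.M24Recog.FusionData

/-- Conjugators, the conjugates ordered by their tables. -/
def negWords : List (List ℕ) :=
  [[2, 0, 2, 1, 0, 2],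
  [2, 1, 0, 1, 2, 0, 2, 1, 2, 0],
  [1, 0, 1, 2, 1, 2, 1, 0, 2],
  [0, 1, 2, 0, 1, 2, 0, 2],
  [2, 1, 2, 1, 0, 2, 0, 2, 1],
  [2, 0, 1, 2, 1, 0, 1, 2, 0],
  [2, 0, 2, 1, 0, 1, 2],
  [1, 2, 0, 2, 1, 0, 1, 2, 0],
  [2, 1, 2, 0, 2, 1, 0, 2, 1, 0, 2],
  [1, 2, 0, 1, 2, 1, 0, 2, 1],
  [2, 1, 0, 1, 0, 2, 1, 0, 1, 2],
  [2, 1, 0, 2, 0, 1, 0, 1],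
  [2, 1, 2, 0, 1, 0, 1, 0],
  [0, 2, 1, 0, 2, 1, 2, 0, 2, 1],
  [0, 2, 1, 0, 2, 0, 1, 0, 1],
  [0, 2, 1, 0, 2, 1],
  [1, 0, 1, 0, 2, 0, 1, 0, 1, 2, 0],
  [1, 2, 0, 1, 2, 1, 0, 2],
  [0, 1, 2, 1, 0, 1, 2, 0],
  [0, 2, 1, 0, 1, 0],
  [0, 2, 1, 0, 1, 0, 2, 0, 2],
  [0, 1, 2, 1, 0, 1, 2, 0, 2],
  [0, 2, 0, 1],
  [0, 2, 1, 2, 0, 1],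
  [2, 1, 0, 1, 0, 2, 1, 0, 2],
  [0, 2, 0, 1, 0, 1, 0],
  [0, 2, 1, 2, 0],
  [2, 0],
  [2, 1, 0, 1, 0, 2, 0, 2],
  [2, 1, 2, 1, 0, 1, 0],
  [2, 0, 1, 0, 1, 0],
  [2, 0, 2, 1, 0, 2, 1],
  [2, 1, 0, 2, 0, 1, 0, 1, 0],
  [2, 1, 2, 0, 1, 0, 1],
  [0, 2, 1, 0, 2],
  [2, 0, 1],
  [2, 1, 0, 2, 1, 0, 1, 0],
  [2, 1, 0, 1, 0, 2, 1, 0, 2, 1],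
  [0, 2, 0, 2, 1, 0, 1, 2],
  [0, 2, 1, 0, 2, 1, 2, 0, 2],
  [0, 2, 0],
  [2, 1, 0, 1, 0],
  [0, 1, 0, 2, 0, 2, 1, 2, 0, 1],
  [0, 1, 0, 1, 2, 1, 2, 0, 1, 0, 1],
  [0, 1, 2, 1, 0, 2, 0, 1, 0, 2, 0],
  [0, 1, 0, 1, 0, 2, 1, 0, 1, 0],
  [1, 0, 2, 1, 2, 0, 1, 0, 1, 2],
  [0, 1, 2, 0, 2, 1],
  [2, 1, 0, 1, 2, 1, 0, 2, 0, 1],
  [0, 1, 2, 0, 1, 2, 0, 1, 2, 0],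
  [0, 2, 1, 2, 1, 2, 0, 1, 0, 1, 0],
  [0, 1, 0, 1, 2, 1, 0, 1, 0],
  [1, 0, 1, 2, 0, 1, 0, 1, 2],
  [1, 0, 1, 2, 1, 2, 0, 1, 0, 1, 0],
  [0, 2, 1, 2, 0, 1, 0, 1, 2],
  [0, 1, 2, 1, 2, 0, 1, 0, 2, 0],
  [0, 2, 1, 0, 1, 2, 1, 0, 2, 0, 2, 1],
  [1, 2, 1, 0, 1, 2, 1, 2, 0],
  [0, 2, 1, 2, 0, 2, 1],
  [0, 1, 0, 1, 2, 1, 0, 2, 0, 2, 1],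
  [0, 1, 2, 1, 2, 1, 0, 1, 0],
  [2, 0, 2, 1, 0, 1, 0, 2, 1, 0, 2],
  [2, 0, 1, 0, 1, 0, 2, 1, 0, 2],
  [1, 2, 1, 0, 1, 2, 1, 2, 0, 1],
  [1, 0, 2, 1, 2, 0, 2],
  [0, 2, 0, 1, 0, 2, 1, 2, 0, 2],
  [0, 2, 0, 1, 0, 1, 2, 0, 2],
  [0, 1, 0, 1, 2, 0, 1, 0, 1, 0],
  [0, 1, 2, 1, 2, 0, 1, 0, 1, 0],
  [0, 1, 2, 0, 1, 0, 1, 2],
  [2, 1, 0, 1, 2, 1, 2, 0, 1],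
  [0, 2, 1, 0, 1, 2, 1, 0, 1, 0],
  [0, 1, 0, 2, 0, 2, 1, 2, 0],
  [1, 0, 1, 2, 1, 2, 1, 0, 1, 0],
  [2, 1, 0, 1, 2, 1, 0, 2, 0],
  [2, 1, 0, 1, 2, 1, 2, 0],
  [1, 0, 1, 2, 0, 2],
  [0, 2, 1, 2, 0, 2],
  [1, 0, 2, 1, 2, 1, 2, 0, 1, 0, 1, 0],
  [1, 0, 2, 1, 2, 0, 2, 1],
  [1, 0, 1, 2, 1, 2, 0, 1, 0, 2, 0],
  [0, 1, 2, 0, 2],
  [0, 1, 0, 1, 2, 0, 1, 2, 0, 2],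
  [1, 0, 2, 0, 1, 0, 1, 2, 0, 2],
  [1, 2, 0, 2, 1, 0, 2],
  [0, 2, 0, 1, 2, 0, 1, 0, 1, 2, 0],
  [2, 0, 2, 1, 0, 2, 0],
  [0, 1, 0, 1, 0, 2, 1, 2, 0, 1],
  [2, 0, 1, 2, 1, 2, 1, 0, 2, 0],
  [1, 2, 1, 0, 1, 0, 2, 1, 0, 2, 1],
  [1, 0, 2, 0, 2, 1, 2, 1, 0, 2, 1],
  [2, 1, 2, 1, 0, 1, 2, 1, 0, 2, 1],
  [1, 2, 0, 1, 2, 1, 0, 1, 2, 0],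
  [2, 0, 2, 1, 0, 2, 0, 1],
  [1, 0, 2, 0, 1],
  [1, 0, 2, 0],
  [2, 1, 2, 0, 1, 0, 1, 2, 1, 2, 0],
  [0, 1, 2, 1, 0, 1, 0, 2, 0],
  [0, 1, 0, 2, 0, 1, 0, 1, 2, 0],
  [1, 0, 1, 2, 1, 0, 1, 2, 0],
  [2, 0, 1, 0, 1, 0, 2, 1, 2, 0],
  [1, 0, 2, 0, 2, 1, 2, 1, 0, 2],
  [1, 0, 2, 1, 0, 2, 1, 2, 0, 2],
  [0, 2, 0, 2, 1, 0, 1, 0],
  [1, 0, 2, 1, 0, 1, 2, 0, 2],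
  [1, 2, 0, 1, 0, 1, 2, 1, 2, 0],
  [1, 0, 2, 0, 1, 2, 0, 2, 1],
  [0, 1, 2, 0, 1, 0, 2, 1, 2, 0],
  [1, 2, 1, 2, 1, 0, 2, 0, 2, 1],
  [0, 1, 0, 1, 0],
  [1, 2, 0, 1, 0, 2, 1, 2, 0],
  [2, 0, 1, 2, 0, 1, 0, 1, 2, 0],
  [1, 2, 0, 1, 0, 1],
  [1, 0, 1, 0],
  [0, 1, 0, 1, 0, 2, 1, 2, 0],
  [1, 0, 2, 1, 0, 2],
  [1, 2, 0, 2, 1, 0, 2, 1],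
  [1, 0, 1, 0, 2, 1, 0, 1, 2],
  [0, 1, 0, 2, 0, 1, 2, 1, 0, 2],
  [2, 1, 0, 2, 0, 1, 2, 1, 2, 0],
  [2, 1, 2, 1, 2, 1, 0, 2, 0],
  [1, 0, 2, 0, 2, 1, 0, 1, 2],
  [1, 0, 2, 1, 0, 2, 1],
  [1, 0, 2, 0, 1, 0, 1, 2, 0],
  [0, 2, 1, 0, 2, 0, 1, 2, 1, 2, 0],
  [2, 0, 2, 1, 0, 1, 0],
  [1, 0, 1, 2, 1, 0, 2, 0, 1],
  [1, 2, 0, 2, 1, 0, 2, 0],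
  [0, 1, 2, 1, 2, 1, 0, 2],
  [0, 1, 2, 1, 2, 0, 1],
  [0, 2, 0, 1, 2, 0, 2],
  [0, 1, 2, 1, 2, 0, 1, 0, 1, 2, 0],
  [1, 2, 0, 2, 1, 0, 1, 2],
  [0, 1, 0, 2, 1, 0, 2, 0, 1, 0, 1, 0],
  [1, 2, 0, 1, 0, 1, 2, 0],
  [1, 2, 0, 1, 0, 1, 2, 0, 1, 2, 1, 0, 2],
  [0, 1, 0, 2, 1, 2, 1, 0, 1, 0],
  [0, 1, 2, 1, 2, 0, 2, 1, 0, 1, 2],
  [1, 2, 0],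
  [0, 1, 2, 1, 0, 2, 0, 1, 0, 1],
  [1, 0, 2, 0, 1, 0, 2, 1, 2, 0],
  [1, 2, 0, 1, 2, 1, 0, 2, 0, 1],
  [1, 2, 0, 1, 0, 1, 2, 0, 1],
  [1, 0, 1, 2, 1, 0, 2, 0],
  [0, 2, 0, 1, 2, 0, 1, 2, 1, 2, 0],
  [1, 2, 1, 2, 1, 0, 2],
  [0, 1, 2, 1, 2, 1, 0, 2, 1],
  [0, 2, 1, 0, 1, 2, 0, 2],
  [0, 1, 2, 0, 1],
  [0, 1, 0, 1, 2, 0, 1, 2, 1, 0, 2],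
  [0, 2, 0, 1, 2, 0, 2, 1],
  [1, 2, 1, 2, 0, 1, 0, 1, 0, 2, 0],
  [0, 1, 2, 0, 1, 2, 1, 2, 0],
  [1, 2, 0, 1, 2, 1, 2, 0, 1],
  [2, 0, 1, 2, 0, 1, 0, 2, 0],
  [1, 2, 1, 0, 2, 0, 1, 0, 1],
  [1, 2, 0, 1, 2, 1, 2, 0],
  [0, 1, 2, 1, 2, 0],
  [1, 2, 0, 1, 2, 1, 2, 1, 0, 1, 0],
  [1, 0, 2, 1, 2, 1, 0, 2, 0],
  [2, 1, 0, 1, 2, 0, 1, 2, 1, 2, 0],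
  [1, 2, 0, 2, 1, 2, 1, 0, 2],
  [1, 2, 1, 2, 1, 0, 2, 1],
  [2, 0, 1, 2, 1, 2, 0, 1, 0, 2, 0],
  [1, 2, 0, 2, 1, 2, 1, 0, 2, 1],
  [2, 0, 1, 2, 0, 1, 2, 1, 2, 0],
  [0, 1, 2, 0],
  [1, 2, 0, 1],
  [2, 1, 0, 1, 2],
  [2, 1, 0, 1, 2, 0, 1, 0, 1, 0],
  [1, 2, 1, 0, 2, 0, 1, 2],
  [1, 2, 0, 2],
  [2, 1, 2, 0, 1, 0, 2],
  [2, 1, 2, 0, 1, 2],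
  [2, 1, 2, 1, 2, 0, 1, 0, 1, 0],
  [2, 1, 0, 2, 0, 1, 2],
  [0, 1, 2, 0, 1, 0, 1, 0, 2, 0],
  [1, 2, 1, 0, 1, 0, 2, 1, 0, 1, 0],
  [0, 1, 0, 2, 1, 0, 1, 2],
  [1, 0, 1, 2, 0],
  [1, 0, 1, 0, 2],
  [1, 0, 1, 2, 1, 0, 2, 0, 2, 1],
  [0, 1, 0, 2, 1],
  [0, 1, 0, 1],
  [0, 1, 0, 1, 2, 0, 2],
  [1, 0, 1, 2, 0, 1, 2, 0, 2],
  [0, 1, 0, 2, 1, 2, 0, 2],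
  [1, 0, 1, 2, 0, 1],
  [1, 0, 2, 0, 2, 1, 0, 1, 0],
  [1],
  [2, 1, 2, 1, 0, 2],
  [],
  [1, 2, 0, 1, 2, 0, 1, 2],
  [1, 2, 1, 0, 2, 0, 1, 0, 1, 0],
  [2, 1, 0, 1, 0, 2, 1, 0, 1, 0],
  [2, 0, 1, 0, 1],
  [1, 2, 1, 2, 0, 1, 0, 1, 0],
  [1, 2, 0, 1, 0, 2],
  [1, 2, 0, 2, 1, 0, 1, 0],
  [2, 0, 1, 0, 2],
  [1, 2, 1, 0, 2, 1, 0, 1, 0],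
  [2, 1, 0, 1, 2, 1, 0, 1, 0],
  [2, 1, 2, 1, 0, 2, 1],
  [0, 1, 0],
  [1, 2, 0, 1, 0, 1, 2],
  [2, 0, 2, 1, 0, 2, 1, 2, 0],
  [0, 1, 0, 2],
  [1, 2, 0, 2, 1],
  [1, 2, 1, 2, 1, 0, 1, 0],
  [0, 1, 0, 2, 1, 2, 0, 2, 1],
  [2, 1, 0, 2, 1, 0, 2],
  [0, 2, 1, 2, 1, 0, 1, 0, 2, 0],
  [1, 2, 1, 2, 0, 1, 0, 1],
  [1, 2, 0, 2, 1, 2, 0, 1, 0, 1, 2, 0],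
  [2, 0, 2, 1, 2, 1, 0, 2, 1],
  [0, 1, 0, 2, 0, 1, 2, 0, 1],
  [0, 2, 1, 0, 2, 0, 1, 0, 1, 2, 0],
  [2, 0, 2, 1, 2, 0, 1, 0, 1, 2, 0],
  [1, 2, 0, 1, 0, 2, 0],
  [1, 0, 1, 0, 2, 0, 1, 2, 1, 0, 2],
  [0, 2, 0, 2, 1, 2, 1, 2, 1, 0, 2, 0],
  [0, 2, 1, 2, 1, 2, 1, 0, 2, 1],
  [2, 0, 1, 0, 1, 2, 0],
  [2, 1, 2, 0, 2, 1, 0, 2, 1],
  [1, 2, 0, 2, 1, 2, 1, 2, 1, 0, 2, 0],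
  [1, 2, 1, 0, 1, 0],
  [0, 2, 0, 1, 2, 0],
  [2, 1, 2, 0, 1, 0, 2, 1, 0, 2, 0, 1],
  [2, 0, 2, 1, 2, 1, 0, 2],
  [1, 2, 1, 2, 0, 1, 0, 1, 2, 1, 2, 0],
  [2, 1, 2, 0, 2, 1, 0, 2],
  [0, 2, 0, 1, 0, 2, 1, 2, 0],
  [1, 2, 0, 1, 0, 1, 0],
  [1, 2, 1, 0, 1, 0, 2, 1, 0, 2, 0],
  [0, 2, 1, 2, 1, 2, 1, 0, 2],
  [0, 1, 0, 1, 2, 1, 2, 0],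
  [2, 1, 0, 1, 0, 2, 1, 0, 2, 0],
  [2, 0, 1, 0, 2, 1, 0, 1, 2, 0, 2],
  [2, 0, 1, 0, 1, 2, 1, 2, 0, 1],
  [2, 1, 0, 2, 1, 0, 2, 1],
  [0, 1, 0, 1, 2, 1, 2, 0, 1],
  [2, 0, 1, 2, 1, 0, 1, 2, 0, 2],
  [1, 0, 2, 0, 1, 0, 1, 0],
  [1, 2, 1, 0, 2, 1, 0, 2, 1],
  [2, 0, 1, 0, 1, 2, 1, 2, 0],
  [0, 2, 0, 1, 0, 2, 0],
  [1, 0, 2, 1, 0, 1, 0],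
  [2, 1, 2, 0, 1, 0, 1, 0, 2, 0],
  [0, 2, 0, 1, 0, 2, 1, 0, 2],
  [0, 2, 0, 1, 2, 0, 1],
  [2, 0, 1, 0, 1, 2, 0, 1],
  [1, 0, 2, 0, 1, 0, 2, 0],
  [0, 1, 2, 1, 0, 2, 0, 1],
  [1, 2, 1, 0, 1, 2, 0, 2, 1, 2, 0],
  [0, 2, 1, 2, 0, 1, 0, 1, 0, 2, 0],
  [2, 0, 1, 2, 1, 2, 0, 1],
  [2, 0, 1, 2, 1, 0, 2, 1],
  [2, 0, 2, 1, 2, 1, 2, 1, 0, 2, 0],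
  [0, 2, 0, 2, 1, 2, 1, 0, 2, 1],
  [0, 1, 2, 0, 1, 2, 1, 0, 1, 0, 2, 0],
  [2, 0, 2, 1, 0, 1, 2, 0],
  [0, 1, 0, 1, 0, 2, 0, 2],
  [2, 0, 1, 2, 1, 2, 0, 1, 0, 1, 0],
  [2, 0, 1, 0, 2, 1, 2, 0],
  [2, 0, 1, 0, 1, 2],
  [2, 0, 1, 0, 1, 2, 0, 1, 2, 1, 0, 2],
  [2, 0, 1, 2, 0, 1, 2],
  [1, 2, 0, 1, 2, 1, 2, 0, 1, 0, 2, 0],
  [2, 1, 2, 1, 0, 1, 0, 2, 0],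
  [0, 1, 2, 1, 0, 2, 0],
  [2, 0, 1, 2, 1, 2, 0],
  [0, 2, 0, 2, 1, 2, 1, 0, 2],
  [1, 0, 2, 1, 2, 1, 2, 1, 0, 2, 1],
  [2, 0, 2],
  [2, 0, 1, 2, 1, 0, 2],
  [1, 2, 0, 1, 2, 0, 1, 2, 1, 2, 0],
  [1, 0, 2, 0, 1, 2, 0, 1],
  [1, 0, 2, 1, 2, 0],
  [1, 0, 2, 1, 2, 0, 1],
  [1, 0, 1, 2, 1, 2, 0, 1],
  [0, 2, 0, 1, 0, 1, 2, 1, 2, 0, 1],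
  [1, 0, 2, 0, 1, 2, 0],
  [1, 0, 1, 2, 1, 2, 0],
  [0, 2, 1, 2, 1, 0, 2, 0],
  [2, 0, 1, 2, 1, 2, 1, 0, 1, 0],
  [2, 1, 2, 0, 1, 2, 1, 2, 1, 0, 1, 0],
  [0, 2, 0, 1, 0, 1, 2, 0],
  [0, 1, 2, 1, 0, 2, 0, 2, 1],
  [1, 0, 1, 2, 0, 1, 2, 1, 2, 0],
  [2, 0, 2, 1],
  [2, 0, 1, 0, 2, 0],
  [2, 0, 1, 2, 1, 0, 2, 0, 1],
  [0, 2, 0, 1, 0, 1, 2, 0, 1],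
  [2, 0, 2, 1, 2, 1, 2, 0, 1, 0, 1, 0]]

/-- The basis of the kernel. -/
def aWords : List (List ℕ) :=
  [[0, 2, 0, 1, 0, 2, 0, 1, 0, 2, 0, 1, 0, 2, 0, 1],
  [1, 0, 1, 2, 1, 2, 1, 2, 1, 2, 1, 2, 1, 2, 0, 1],
  [0, 1, 2, 1, 2, 1, 2, 1, 2, 1, 2, 1, 2, 0],
  [1, 2, 0, 1, 2, 1, 2, 1, 2, 1, 2, 1, 2, 1, 2, 0, 2, 1]]

/-- A point outside the octad. -/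
def outPt : ℕ := 0

end Cfsg.Agent.M24Recog.FusionData
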