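import Cfsg.Agent.Lib.M24Recog.Checks

/-!
# The swap intertwines the embedding on a group of order `10752`

* `Hyp φ`: the hypotheses.
* `Hyp.exists_swap`: an element `s` with `s * φ (jel w) * s⁻¹ = φ (jel (w.map jsw))` and `s * s = 1`.
-/

set_option autoImplicit false
set_option maxRecDepth 100000

namespace Cfsg.Agent.M24Recog

open Cfsg Subgroup

variable {G : Type*} [Group G]

/-- What is known of the embedding. -/
structure Hyp (φ : ↥P1 →* G) : Prop where
  inj : Function.Injective φ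
  cent : ∀ g : G, g * φ z0 = φ z0 * g → g ∈ φ.range
  fusionW : ∀ v < 64, v ≠ 0 → (IsConj (φ z0) (φ (wel v)) ↔ zt v = true)
  pos : ∀ p : ↥P1, p * z0 = z0 * p → p * p = 1 → p ≠ 1 → pfix p = 8 → IsConj (φ z0) (φ p)
  neg : ¬ IsConj (φ z0) (φ (kk 2))
  swap : ∃ c : G, c * φ z0 * c⁻¹ = φ x0 ∧ c * φ x0 * c⁻¹ = φ z0

/-- A generator of the group of order `10752`. -/
def jgen (k : ℕ) : ↥P1 := bif Nat.blt k 6 then wel (2 ^ k) else kk (k - 6)

/-- The swap on the generators. -/
def jsw : ℕ → ℕ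
  | 0 => 1
  | 1 => 0
  | 2 => 4
  | 4 => 2
  | 3 => 5
  | 5 => 3
  | k => k

/-- The value of a word. -/
def jel : List ℕ → ↥P1
  | [] => 1
  | k :: w => jgen k * jel w

theorem pcode_jgen (k : ℕ) : pcode (jgen k) = jT k := by
  rw [jgen, jT]
  by_cases h : k < 6
  · rw [show Nat.blt k 6 = true by simpa [Nat.blt] using h]
    exact pcode_wel (lt_of_lt_of_le (Nat.pow_lt_pow_right (by norm_num) h) (by norm_num))
  · rw [show Nat.blt k 6 = false by rw [← Bool.not_eq_true, Nat.blt_eq]; exact h]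
    exact pcode_kk _

theorem tel_zero : tel 0 = 1 := by
  have h := tel_mul (a := 0) (b := 0) (by norm_num) (by norm_num)
  rw [show tmul 0 0 = 0 by decide +kernel] at h
  exact mul_eq_left.1 h

theorem wel_zero : wel 0 = 1 := by rw [← tel_w (by norm_num), tel_zero]

theorem wel_sq {v : ℕ} (hv : v < 64) : wel v * wel v = 1 := by rw [wel_mul hv hv, Nat.xor_self, wel_zero]

theorem two_pow_lt {k : ℕ} (hk : k < 6) : 2 ^ k < 64 :=
  lt_of_lt_of_le (Nat.pow_lt_pow_right (by norm_num) hk) (by norm_num)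

/-- Induction over the bits. -/
theorem bits_induction {p : ℕ → Prop} (h0 : p 0)
    (hs : ∀ n < 6, ∀ v < 2 ^ (n + 1), v.testBit n = true → p (v ^^^ 2 ^ n) → p v) : ∀ v < 64, p v := by
  suffices ∀ n ≤ 6, ∀ v < 2 ^ n, p v from fun v hv => this 6 le_rfl v hv
  intro n
  induction n with
  | zero => intro _ v hv; rw [show v = 0 by simpa using hv]; exact h0
  | succ n ih =>
    intro hn v hv
    cases h : v.testBit n
    · exact ih (by omega) v ((top_bit n (by omega) v hv).2 h)
    · exact hs n (by omega) v hv h (ih (by omega) _ ((top_bit n (by omega) v hv).1 h).1)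

theorem split_top {n v : ℕ} (hn : n < 6) (hv : v < 2 ^ (n + 1)) (h : v.testBit n = true) :
    (v ^^^ 2 ^ n) < 64 ∧ wel v = wel (v ^^^ 2 ^ n) * wel (2 ^ n) := by
  have h1 := lt_trans ((top_bit n hn v hv).1 h).1 (two_pow_lt hn)
  exact ⟨h1, by rw [wel_mul h1 (two_pow_lt hn), Nat.xor_assoc, Nat.xor_self, Nat.xor_zero]⟩

theorem sel_conj {j v : ℕ} (hj : j < 24) (hv : v < 64) : sel j * wel v * (sel j)⁻¹ = wel (ac j v) := by
  rw [sel_wel hj hv, mul_inv_cancel_right]

theorem kk_conj {i v : ℕ} (hi : i < 3) (hv : v < 64) :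
    ak i v < 64 ∧ kk i * wel v = wel (ak i v) * kk i ∧ sw (ak i (sw v)) = ak i v := by
  have h := allB_spec (allB_spec ak_check i hi) v hv
  simp only [Bool.and_eq_true] at h
  have h1 : ak i v < 64 := by simpa [Nat.blt] using h.1.1
  refine ⟨h1, pcode_injective ?_, Nat.eq_of_beq_eq_true h.2⟩
  rw [pcode_mul, pcode_mul, pcode_kk, pcode_wel hv, pcode_wel h1]
  exact Nat.eq_of_beq_eq_true h.1.2

theorem kk_two : kk 2 = tel (64 * Data.iIdx) := pcode_injective <| by
  rw [pcode_kk, pcode_tel (by decide), inv_rel.1]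

theorem tel_comm {n : ℕ} (hn : n < 1536) : tel n * z0 = z0 * tel n ∧ tel n * x0 = x0 * tel n :=
  ⟨mem_centralizer_singleton_iff.1 (tel_mem hn).1, mem_centralizer_singleton_iff.1 (tel_mem hn).2⟩

theorem wel_comm {v : ℕ} (hv : v < 64) : wel v * z0 = z0 * wel v ∧ wel v * x0 = x0 * wel v :=
  tel_w hv ▸ tel_comm (hv.trans (by norm_num))

theorem jgen_zero : jgen 0 = z0 ∧ jgen 1 = x0 :=
  ⟨by rw [jgen, z0, tel_w (by norm_num)]; rfl, by rw [jgen, x0, tel_w (by norm_num)]; rfl⟩

/-- The same without the structure: the part at one element. -/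
theorem eq_of_cent_w {n : ℕ} (hn : n < 1536) (h : ∀ k < 6, tel n * wel (2 ^ k) = wel (2 ^ k) * tel n) : n < 64 := by
  have hc := allB_spec cent_w6_check n hn
  simp only [Bool.or_eq_true, Bool.not_eq_true'] at hc
  rcases hc with hc | hc
  · simpa [Nat.blt] using hc
  · refine absurd hc ?_
    have key : ∀ k < 6, tmul n (2 ^ k) = tmul (2 ^ k) n := fun k hk => by
      have hp : 2 ^ k < 1536 := (two_pow_lt hk).trans (by norm_num)
      refine tel_inj (tmul_lt hn hp) (tmul_lt hp hn) ?_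
      rw [← tel_mul hn hp, ← tel_mul hp hn, tel_w (two_pow_lt hk), h k hk]
    simp only [allB, key, show (0 : ℕ) < 6 by norm_num, show (1 : ℕ) < 6 by norm_num, show (2 : ℕ) < 6 by norm_num,
      show (3 : ℕ) < 6 by norm_num, show (4 : ℕ) < 6 by norm_num, show (5 : ℕ) < 6 by norm_num, Nat.beq_refl,
      Bool.and_self, Bool.true_eq_false, not_false_eq_true]

namespace Hyp

variable {φ : ↥P1 →* G} (H : Hyp φ)
include H

theorem exists_tel' {g : G} (hz : g * φ z0 = φ z0 * g) (hx : g * φ x0 = φ x0 * g) : ∃ n < 1536, g = φ (tel n) := by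
  obtain ⟨p, rfl⟩ := H.cent g hz
  obtain ⟨n, hn, rfl⟩ := exists_tel (p := p) (H.inj (by rw [map_mul, map_mul, hz])) (H.inj (by rw [map_mul, map_mul, hx]))
  exact ⟨n, hn, rfl⟩

/-- Conjugation by an element swapping the two involutions, in coordinates. -/
theorem exists_sigma : ∃ (c : G) (σ : ℕ → ℕ), (∀ n < 1536, σ n < 1536 ∧ c * φ (tel n) * c⁻¹ = φ (tel (σ n))) ∧
    σ 1 = 2 ∧ σ 2 = 1 := by
  obtain ⟨c, hc, hc'⟩ := H.swap
  have key : ∀ n, ∃ m, n < 1536 → m < 1536 ∧ c * φ (tel n) * c⁻¹ = φ (tel m) := fun n => by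
    by_cases hn : n < 1536
    · obtain ⟨m, hm, e⟩ := H.exists_tel' (g := c * φ (tel n) * c⁻¹)
        (by
          rw [← hc']
          simp only [← map_mul, conj_mul]
          rw [(tel_comm hn).2])
        (by
          rw [← hc]
          simp only [← map_mul, conj_mul]
          rw [(tel_comm hn).1])
      exact ⟨m, fun _ => ⟨hm, e⟩⟩
    · exact ⟨0, fun h => absurd h hn⟩
  choose σ hσ using key
  refine ⟨c, σ, hσ, ?_, ?_⟩
  · refine tel_inj (hσ 1 (by norm_num)).1 (by norm_num) (H.inj ?_)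
    rw [← (hσ 1 (by norm_num)).2]; exact hc
  · refine tel_inj (hσ 2 (by norm_num)).1 (by norm_num) (H.inj ?_)
    rw [← (hσ 2 (by norm_num)).2]; exact hc'

theorem zt_iff {v : ℕ} (hv : v < 64) (h0 : v ≠ 0) : IsConj (φ z0) (φ (wel v)) ↔ zt v = true :=
  H.fusionW v hv h0

/-- The element inducing the swap on the group of order 64. -/
theorem exists_swap_w : ∃ s : G, ∀ v < 64, s * φ (wel v) * s⁻¹ = φ (wel (sw v)) := by
  obtain ⟨c, σ, hσ, h1, h2⟩ := H.exists_sigma
  have hinj : ∀ a b, a < 1536 → b < 1536 → σ a = σ b → a = b := fun a b ha hb e =>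
    tel_inj ha hb (H.inj (mul_right_cancel (mul_left_cancel (a := c) (b := φ (tel a) * c⁻¹) (c := φ (tel b) * c⁻¹) (by
      rw [← mul_assoc, ← mul_assoc, (hσ a ha).2, (hσ b hb).2, e]))))
  have hmul : ∀ a b, a < 1536 → b < 1536 → σ (tmul a b) = tmul (σ a) (σ b) := fun a b ha hb =>
    tel_inj (hσ _ (tmul_lt ha hb)).1 (tmul_lt (hσ a ha).1 (hσ b hb).1) (H.inj (by
      rw [← (hσ _ (tmul_lt ha hb)).2, ← tel_mul ha hb, ← tel_mul (hσ a ha).1 (hσ b hb).1, map_mul, map_mul,
        ← (hσ a ha).2, ← (hσ b hb).2, conj_mul]))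
  have hcnt : ∀ n < 1536, cnt n ≤ cnt (σ n) := fun n hn => by
    rw [cnt, cnt, countB_eq, countB_eq]
    refine Finset.card_le_card_of_injOn σ (fun m hm => ?_) fun a ha b hb e => ?_
    · simp only [Finset.coe_filter, Finset.mem_range, Set.mem_setOf_eq] at hm ⊢
      exact ⟨(hσ m hm.1).1, by rw [← hmul n m hn hm.1, ← hmul m n hm.1 hn, Nat.eq_of_beq_eq_true hm.2, Nat.beq_refl]⟩
    · simp only [Finset.coe_filter, Finset.mem_range, Set.mem_setOf_eq] at ha hb
      exact hinj a b ha.1 hb.1 e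
  have h0 : σ 0 = 0 := tel_inj (hσ 0 (by norm_num)).1 (by norm_num) (H.inj (by
    rw [← (hσ 0 (by norm_num)).2, tel_zero, map_one, mul_one, mul_inv_cancel]))
  have hbasis : ∀ k < 6, σ (2 ^ k) < 64 := by
    intro k hk
    have hp : 2 ^ k < 1536 := (two_pow_lt hk).trans (by norm_num)
    have hb := allB_spec basis_cnt k hk
    simp only [Bool.and_eq_true] at hb
    have hc := allB_spec w6_check (σ (2 ^ k)) (hσ _ hp).1
    simp only [Bool.or_eq_true, Bool.not_eq_true'] at hc
    rcases hc with (hc | hc) | hc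
    · rw [← hmul _ _ hp hp, Nat.eq_of_beq_eq_true hb.2, h0] at hc
      simp at hc
    · simpa [Nat.blt] using hc
    · have := hcnt _ hp
      have h256 : 256 ≤ cnt (2 ^ k) := Nat.le_of_ble_eq_true hb.1
      have hlt : cnt (σ (2 ^ k)) < 256 := by simpa [Nat.blt] using hc
      omega
  have hxor : ∀ a b, a < 64 → b < 64 → σ a < 64 → σ b < 64 → σ (a ^^^ b) = σ a ^^^ σ b := fun a b ha hb ha' hb' => by
    rw [← Nat.eq_of_beq_eq_true (allB_spec (allB_spec tmul_low a ha) b hb), hmul a b (by omega) (by omega),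
      Nat.eq_of_beq_eq_true (allB_spec (allB_spec tmul_low _ ha') _ hb')]
  have hlow : ∀ v < 64, σ v < 64 := by
    refine bits_induction (by rw [h0]; norm_num) fun n hn v hv hb ih => ?_
    have h64 := (split_top hn hv hb).1
    have e : v = v ^^^ 2 ^ n ^^^ 2 ^ n := by rw [Nat.xor_assoc, Nat.xor_self, Nat.xor_zero]
    rw [e, hxor _ _ h64 (two_pow_lt hn) ih (hbasis n hn)]
    exact Nat.xor_lt_two_pow (n := 6) ih (hbasis n hn)
  have hxor' : ∀ a b, a < 64 → b < 64 → σ (a ^^^ b) = σ a ^^^ σ b := fun a b ha hb =>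
    hxor a b ha hb (hlow a ha) (hlow b hb)
  have hzt : ∀ v < 64, v ≠ 0 → zt (σ v) = zt v := fun v hv hv0 => by
    have hne : σ v ≠ 0 := fun e => hv0 (hinj v 0 (by omega) (by norm_num) (e.trans h0.symm))
    rw [Bool.eq_iff_iff, ← H.zt_iff hv hv0, ← H.zt_iff (hlow v hv) hne]
    have e := (hσ v (by omega)).2
    rw [tel_w hv, tel_w (hlow v hv)] at e
    rw [← e]
    exact ⟨fun h => h.trans (isConj_iff.2 ⟨c⁻¹, by group⟩), fun h => h.trans (isConj_iff.2 ⟨c, rfl⟩)⟩
  -- the values
  set f := fim (σ 4) (σ 8) (σ 16) (σ 32) with hf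
  have hfk : ∀ k < 6, σ (2 ^ k) = f k := by
    intro k hk
    interval_cases k <;> norm_num <;> first | rfl | exact h1 | exact h2
  have hfv : ∀ v < 64, σ v = fv f v := by
    have hfv0 : fv f 0 = 0 := by simp [fv]
    refine bits_induction (by rw [h0, hfv0]) fun n hn v hv hb ih => ?_
    have h64 := (split_top hn hv hb).1
    have e : v = v ^^^ 2 ^ n ^^^ 2 ^ n := by rw [Nat.xor_assoc, Nat.xor_self, Nat.xor_zero]
    conv_lhs => rw [e, hxor' _ _ h64 (two_pow_lt hn), ih, hfk n hn]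
    have hbits : ∀ n < 6, ∀ v < 2 ^ (n + 1), v.testBit n = true → ∀ i < 6,
        (v ^^^ 2 ^ n).testBit i = if i = n then false else v.testBit i := by decide +kernel
    have hb' := hbits n hn v hv hb
    simp only [fv, hb' 0 (by norm_num), hb' 1 (by norm_num), hb' 2 (by norm_num), hb' 3 (by norm_num),
      hb' 4 (by norm_num), hb' 5 (by norm_num)]
    interval_cases n <;> simp only [hb, if_true, if_false, cond_true, cond_false, reduceIte, OfNat.ofNat_ne_zero,
      OfNat.zero_ne_ofNat, one_ne_zero, zero_ne_one, OfNat.ofNat_ne_one, OfNat.one_ne_ofNat,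
      (by decide : (2 : ℕ) ≠ 3), (by decide : (2 : ℕ) ≠ 4), (by decide : (2 : ℕ) ≠ 5), (by decide : (3 : ℕ) ≠ 4),
      (by decide : (3 : ℕ) ≠ 5), (by decide : (4 : ℕ) ≠ 5), (by decide : (3 : ℕ) ≠ 2), (by decide : (4 : ℕ) ≠ 2),
      (by decide : (5 : ℕ) ≠ 2), (by decide : (4 : ℕ) ≠ 3), (by decide : (5 : ℕ) ≠ 3), (by decide : (5 : ℕ) ≠ 4)] <;>
      simp only [Nat.xor_eq, Nat.zero_xor, Nat.xor_zero] <;> ac_rfl
  -- the case
  obtain ⟨j, hj, hjk⟩ : ∃ j < 24, ∀ k < 6, σ (ac j (2 ^ k)) = sw (2 ^ k) := by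
    obtain ⟨p4, p5, p6, p8, p9, p10, p12, p16, p18, p17, p20, p32, p34, p33, p40, p48⟩ := zt_pattern
    have q : ∀ a b, a < 64 → b < 64 → a ^^^ b ≠ 0 → zt (σ a ^^^ σ b) = zt (a ^^^ b) := fun a b ha hb hne => by
      rw [← hxor' a b ha hb, hzt _ (Nat.xor_lt_two_pow (n := 6) ha hb) hne]
    have c4 : zt (σ 4) = true := (hzt 4 (by norm_num) (by norm_num)).trans p4
    have c8 : zt (σ 8) = true := (hzt 8 (by norm_num) (by norm_num)).trans p8
    have c16 : zt (σ 16) = true := (hzt 16 (by norm_num) (by norm_num)).trans p16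
    have c32 : zt (σ 32) = true := (hzt 32 (by norm_num) (by norm_num)).trans p32
    have d45 : zt (σ 4 ^^^ 2) = true := by rw [← h1, q 4 1 (by norm_num) (by norm_num) (by decide)]; exact p5
    have d46 : zt (σ 4 ^^^ 1) = false := by rw [← h2, q 4 2 (by norm_num) (by norm_num) (by decide)]; exact p6
    have d89 : zt (σ 8 ^^^ 2) = true := by rw [← h1, q 8 1 (by norm_num) (by norm_num) (by decide)]; exact p9
    have d8a : zt (σ 8 ^^^ 1) = false := by rw [← h2, q 8 2 (by norm_num) (by norm_num) (by decide)]; exact p10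
    have d18 : zt (σ 16 ^^^ 1) = true := by rw [← h2, q 16 2 (by norm_num) (by norm_num) (by decide)]; exact p18
    have d17 : zt (σ 16 ^^^ 2) = false := by rw [← h1, q 16 1 (by norm_num) (by norm_num) (by decide)]; exact p17
    have d34 : zt (σ 32 ^^^ 1) = true := by rw [← h2, q 32 2 (by norm_num) (by norm_num) (by decide)]; exact p34
    have d33 : zt (σ 32 ^^^ 2) = false := by rw [← h1, q 32 1 (by norm_num) (by norm_num) (by decide)]; exact p33
    have e12 : zt (σ 4 ^^^ σ 8) = true := by rw [q 4 8 (by norm_num) (by norm_num) (by decide)]; exact p12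
    have e20 : zt (σ 4 ^^^ σ 16) = true := by rw [q 4 16 (by norm_num) (by norm_num) (by decide)]; exact p20
    have e40 : zt (σ 8 ^^^ σ 32) = true := by rw [q 8 32 (by norm_num) (by norm_num) (by decide)]; exact p40
    have e48 : zt (σ 16 ^^^ σ 32) = true := by rw [q 16 32 (by norm_num) (by norm_num) (by decide)]; exact p48
    have h := allB_spec fcase_check (σ 4) (hlow 4 (by norm_num))
    simp only [c4, d45, d46, Bool.not_false, Bool.and_self, Bool.not_true, Bool.false_or] at h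
    have h := allB_spec h (σ 8) (hlow 8 (by norm_num))
    simp only [c8, d89, d8a, e12, Bool.not_false, Bool.and_self, Bool.not_true, Bool.false_or] at h
    have h := allB_spec h (σ 16) (hlow 16 (by norm_num))
    simp only [c16, d18, d17, e20, Bool.not_false, Bool.and_self, Bool.not_true, Bool.false_or] at h
    have h := allB_spec h (σ 32) (hlow 32 (by norm_num))
    simp only [c32, d34, d33, e40, e48, Bool.not_false, Bool.and_self, Bool.not_true, Bool.false_or,
      Bool.or_eq_true] at h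
    rcases h with h | h
    · obtain ⟨v, hv, hv'⟩ := anyB_spec h
      simp only [Bool.and_eq_true, Bool.not_eq_true'] at hv'
      have e := (hfv v hv).trans (Nat.eq_of_beq_eq_true hv'.2)
      have := hinj v 0 (by omega) (by norm_num) (e.trans h0.symm)
      subst this
      simp at hv'
    · obtain ⟨j, hj, hj'⟩ := anyB_spec h
      refine ⟨j, hj, fun k hk => ?_⟩
      rw [hfv _ (ac_lt hj (two_pow_lt hk))]
      exact Nat.eq_of_beq_eq_true (allB_spec hj' k hk)
  refine ⟨c * φ (sel j), bits_induction ?_ fun n hn v hv hb ih => ?_⟩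
  · rw [show sw 0 = 0 by decide +kernel, wel_zero, map_one, mul_one, mul_inv_cancel]
  · obtain ⟨h64, e⟩ := split_top hn hv hb
    have e2 := ((top_bit n hn v hv).1 hb).2
    have hn' := two_pow_lt hn
    rw [e, map_mul, ← conj_mul, ih, e2, ← wel_mul (sw_lt _ h64).1 (sw_lt _ hn').1, map_mul]
    congr 1
    have hcj := (hσ (ac j (2 ^ n)) ((ac_lt hj hn').trans (by norm_num))).2
    rw [tel_w (ac_lt hj hn'), hjk n hn, tel_w (sw_lt _ hn').1, ← sel_conj hj hn', map_mul, map_mul, map_inv] at hcj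
    rw [← hcj]
    group

/-- The element intertwining on the generators. -/
theorem exists_swap : ∃ s : G, (∀ k < 9, s * φ (jgen k) * s⁻¹ = φ (jgen (jsw k))) ∧ s * s = 1 := by
  obtain ⟨s, hs⟩ := H.exists_swap_w
  have hk : ∀ i < 3, ∃ u < 64, s * φ (kk i) * s⁻¹ = φ (kk i * wel u) := by
    intro i hi
    have key : ∀ v < 64, (φ (kk i))⁻¹ * (s * φ (kk i) * s⁻¹) * φ (wel v) =
        φ (wel v) * ((φ (kk i))⁻¹ * (s * φ (kk i) * s⁻¹)) := by
      intro v hv
      have hv' := (sw_lt v hv).1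
      obtain ⟨ha', ea', -⟩ := kk_conj hi hv'
      obtain ⟨ha, ea, hsw⟩ := kk_conj hi hv
      have e1 : s * φ (kk i) * s⁻¹ * φ (wel v) = φ (wel (ak i v)) * (s * φ (kk i) * s⁻¹) := by
        conv_lhs => rw [← (sw_lt v hv).2, ← hs _ hv', conj_mul, ← map_mul, ea', map_mul, ← conj_mul, hs _ ha', hsw]
      rw [mul_assoc, e1, ← mul_assoc, ← mul_assoc (φ (wel v))]
      congr 1
      rw [inv_mul_eq_iff_eq_mul, ← mul_assoc, ← map_mul, ea, map_mul, mul_inv_cancel_right]
    obtain ⟨n, hn, e⟩ := H.exists_tel' (g := (φ (kk i))⁻¹ * (s * φ (kk i) * s⁻¹))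
      (by rw [z0, tel_w (by norm_num)]; exact key 1 (by norm_num))
      (by rw [x0, tel_w (by norm_num)]; exact key 2 (by norm_num))
    have h64 : n < 64 := eq_of_cent_w hn fun k hk => H.inj (by
      rw [map_mul, map_mul, ← e]; exact key _ (two_pow_lt hk))
    refine ⟨n, h64, ?_⟩
    rw [map_mul, ← tel_w h64, ← e, mul_inv_cancel_left]
  -- adjust by the group of order 64
  obtain ⟨u0, hu0, e0⟩ := hk 0 (by norm_num)
  obtain ⟨v0, hv0, hv0'⟩ := anyB_spec (allB_spec seven_check u0 hu0)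
  have hfix : wel v0 * (kk 0 * wel u0) * wel v0 = kk 0 := pcode_injective (by
    rw [pcode_mul, pcode_mul, pcode_mul, pcode_kk, pcode_wel hv0, pcode_wel hu0]
    exact Nat.eq_of_beq_eq_true hv0')
  have hinv : (wel v0)⁻¹ = wel v0 := inv_eq_of_mul_eq_one_right (wel_sq hv0)
  set t := φ (wel v0) * s with ht
  have hconj : ∀ g : G, t * g * t⁻¹ = φ (wel v0) * (s * g * s⁻¹) * φ (wel v0) := fun g => by
    rw [ht, mul_inv_rev, ← map_inv, hinv]; group
  have htw : ∀ v < 64, t * φ (wel v) * t⁻¹ = φ (wel (sw v)) := fun v hv => by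
    rw [hconj, hs v hv, ← map_mul, ← map_mul, wel_mul hv0 (sw_lt v hv).1,
      wel_mul (Nat.xor_lt_two_pow (n := 6) hv0 (sw_lt v hv).1) hv0, Nat.xor_comm v0, Nat.xor_assoc,
      Nat.xor_self, Nat.xor_zero]
  have ht0 : t * φ (kk 0) * t⁻¹ = φ (kk 0) := by rw [hconj, e0, ← map_mul, ← map_mul, hfix]
  have hkt : ∀ i < 3, ∃ u < 64, t * φ (kk i) * t⁻¹ = φ (kk i * wel u) := by
    intro i hi
    obtain ⟨u, hu, e⟩ := hk i hi
    obtain ⟨ha, ea, -⟩ := kk_conj hi hv0
    -- move `v0` to the right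
    obtain ⟨w, hw, ew⟩ : ∃ w < 64, wel v0 * kk i = kk i * wel w := by
      obtain ⟨w, hw, rfl⟩ : ∃ w < 64, ak i w = v0 := by
        have hinj' : Function.Injective fun w : Fin 64 => (⟨ak i w, (kk_conj hi w.2).1⟩ : Fin 64) :=
          fun a b e => Fin.ext (wel_inj a.2 b.2 (mul_left_cancel (a := kk i) (by
            rw [(kk_conj hi a.2).2.1, (kk_conj hi b.2).2.1, show ak i a = ak i b from congrArg Fin.val e])))
        obtain ⟨w, hw⟩ := (Finite.injective_iff_surjective.1 hinj') ⟨v0, hv0⟩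
        exact ⟨w, w.2, congrArg Fin.val hw⟩
      exact ⟨w, hw, (kk_conj hi hw).2.1.symm⟩
    refine ⟨w ^^^ u ^^^ v0, Nat.xor_lt_two_pow (n := 6) (Nat.xor_lt_two_pow (n := 6) hw hu) hv0, ?_⟩
    rw [hconj, e, ← map_mul, ← map_mul, ← mul_assoc (wel v0), ew, mul_assoc (kk i), wel_mul hw hu, mul_assoc (kk i),
      wel_mul (Nat.xor_lt_two_pow (n := 6) hw hu) hv0]
  have ht1 : t * φ (kk 1) * t⁻¹ = φ (kk 1) := by
    obtain ⟨u, hu, e⟩ := hkt 1 (by norm_num)
    have hrel : kk 1 * kk 0 = kk 0 * kk 0 * kk 1 := pcode_injective (by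
      simp only [pcode_mul, pcode_kk]; exact three_rel)
    have h' : kk 1 * wel u * kk 0 = kk 0 * kk 0 * (kk 1 * wel u) := H.inj (by
      rw [map_mul φ (kk 1 * wel u), map_mul φ (kk 0 * kk 0), map_mul φ (kk 0), ← e, ← ht0]
      rw [conj_mul, conj_mul, conj_mul, ← map_mul φ, ← map_mul φ, ← map_mul φ, hrel])
    have hc := allB_spec three_check u hu
    simp only [Bool.or_eq_true, Bool.not_eq_true'] at hc
    rcases hc with hc | hc
    · rw [e, Nat.eq_of_beq_eq_true hc, wel_zero, mul_one]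
    · refine absurd hc ?_
      have := congrArg pcode h'
      simp only [pcode_mul, pcode_kk, pcode_wel hu] at this
      rw [this, Nat.beq_refl]
      simp
  have ht2 : t * φ (kk 2) * t⁻¹ = φ (kk 2) := by
    obtain ⟨u, hu, e⟩ := hkt 2 (by norm_num)
    obtain ⟨-, r2, -, r4⟩ := inv_rel
    have hsq : kk 2 * kk 2 = 1 := pcode_injective (by rw [pcode_mul, pcode_kk, pcode_one, r2])
    have hsq' : kk 2 * wel u * (kk 2 * wel u) = 1 := H.inj (by
      rw [map_mul, ← e, conj_mul, ← map_mul, hsq, map_one, mul_one, mul_inv_cancel])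
    have hne : kk 2 ≠ 1 := by
      intro h
      have h' := congrArg pcode h
      rw [pcode_kk, pcode_one] at h'
      exact absurd h' (by decide +kernel)
    have hcz : kk 2 * z0 = z0 * kk 2 := by rw [kk_two]; exact (tel_comm (by decide)).1
    have hnc : pfix (kk 2 * wel u) ≠ 8 := by
      intro h8
      have hne' : kk 2 * wel u ≠ 1 := fun h => hne (H.inj (by
        rw [map_one]
        exact conj_eq_one_iff.1 (e.trans (by rw [h, map_one]))))
      have hc' : kk 2 * wel u * z0 = z0 * (kk 2 * wel u) := by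
        rw [mul_assoc, (wel_comm hu).1, ← mul_assoc, hcz, mul_assoc]
      have h9 := H.pos _ hc' hsq' hne' h8
      rw [← e] at h9
      exact H.neg (h9.trans (isConj_iff.2 ⟨t⁻¹, by group⟩))
    have hcube : ∀ a : ↥P1, cubeT (pcode a) = pcode
        (kk 0 * (kk 0 * kk 0) * a * (kk 0 * (kk 0 * kk 0) * a * (kk 0 * (kk 0 * kk 0) * a))) := fun a => by
      simp only [cubeT, relT, pcode_mul, pcode_kk]
    have h3 : cubeT (mulT (kT 2) (wT u)) = idT := by
      have h1 : kk 0 * (kk 0 * kk 0) * kk 2 * (kk 0 * (kk 0 * kk 0) * kk 2 * (kk 0 * (kk 0 * kk 0) * kk 2)) = 1 :=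
        pcode_injective (by rw [← hcube, pcode_kk, r4, pcode_one])
      have h2 : kk 0 * (kk 0 * kk 0) * (kk 2 * wel u) * (kk 0 * (kk 0 * kk 0) * (kk 2 * wel u) *
          (kk 0 * (kk 0 * kk 0) * (kk 2 * wel u))) = 1 := H.inj (by
        have := congrArg (fun g => t * φ g * t⁻¹) h1
        simp only [map_one, mul_one, mul_inv_cancel, map_mul, ← conj_mul, ht0, e] at this
        rw [map_one]
        simp only [map_mul]
        exact this)
      rw [← pcode_kk, ← pcode_wel hu, ← pcode_mul, hcube, h2, pcode_one]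
    have hc := allB_spec inv_check u hu
    have q1 : mulT (mulT (kT 2) (wT u)) (mulT (kT 2) (wT u)) = idT := by
      rw [← pcode_kk, ← pcode_wel hu, ← pcode_mul, ← pcode_mul, hsq', pcode_one]
    have q2 : Nat.beq (nfixT (mulT (kT 2) (wT u))) 8 = false := by
      rw [← pcode_kk, ← pcode_wel hu, ← pcode_mul]
      cases hb : Nat.beq (nfixT (pcode (kk 2 * wel u))) 8
      · rfl
      · exact absurd (Nat.eq_of_beq_eq_true hb) hnc
    simp only [q1, q2, h3, Nat.beq_refl, Bool.not_true, Bool.or_false] at hc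
    rw [e, Nat.eq_of_beq_eq_true hc, wel_zero, mul_one]
  refine ⟨t, fun k hk9 => ?_, ?_⟩
  · interval_cases k
    · exact htw 1 (by norm_num)
    · exact htw 2 (by norm_num)
    · exact htw 4 (by norm_num)
    · exact htw 8 (by norm_num)
    · exact htw 16 (by norm_num)
    · exact htw 32 (by norm_num)
    · exact ht0
    · exact ht1
    · exact ht2
  · have hone : ∀ k < 9, t * φ (jgen k) * t⁻¹ = φ (jgen (jsw k)) := fun k hk9 => by
      interval_cases k
      · exact htw 1 (by norm_num)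
      · exact htw 2 (by norm_num)
      · exact htw 4 (by norm_num)
      · exact htw 8 (by norm_num)
      · exact htw 16 (by norm_num)
      · exact htw 32 (by norm_num)
      · exact ht0
      · exact ht1
      · exact ht2
    have hjj : ∀ k < 9, jsw k < 9 ∧ jsw (jsw k) = k := by decide
    have hcomm : ∀ k < 9, t * t * φ (jgen k) = φ (jgen k) * (t * t) := fun k hk9 => by
      have e2 : t * t * φ (jgen k) * (t * t)⁻¹ = φ (jgen k) := by
        rw [show t * t * φ (jgen k) * (t * t)⁻¹ = t * (t * φ (jgen k) * t⁻¹) * t⁻¹ by group, hone k hk9,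
          hone _ (hjj k hk9).1, (hjj k hk9).2]
      exact mul_inv_eq_iff_eq_mul.1 e2
    obtain ⟨n, hn, en⟩ := H.exists_tel' (g := t * t) (jgen_zero.1 ▸ hcomm 0 (by norm_num))
      (jgen_zero.2 ▸ hcomm 1 (by norm_num))
    have hc := allB_spec cent_j_check n hn
    simp only [Bool.or_eq_true, Bool.not_eq_true'] at hc
    rcases hc with hc | hc
    · rw [en, Nat.eq_of_beq_eq_true hc, tel_zero, map_one]
    · refine absurd hc ?_
      have key : ∀ k < 9, mulT (tT n) (jT k) = mulT (jT k) (tT n) := fun k hk9 => by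
        rw [← pcode_tel hn, ← pcode_jgen, ← pcode_mul, ← pcode_mul]
        exact congrArg pcode (H.inj (by rw [map_mul, map_mul, ← en, hcomm k hk9]))
      simp only [allB, key, show (0 : ℕ) < 9 by norm_num, show (1 : ℕ) < 9 by norm_num, show (2 : ℕ) < 9 by norm_num,
        show (3 : ℕ) < 9 by norm_num, show (4 : ℕ) < 9 by norm_num, show (5 : ℕ) < 9 by norm_num,
        show (6 : ℕ) < 9 by norm_num, show (7 : ℕ) < 9 by norm_num, show (8 : ℕ) < 9 by norm_num, Nat.beq_refl,
        Bool.and_self, Bool.true_eq_false, not_false_eq_true]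

end Hyp

end Cfsg.Agent.M24Recog
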