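import Cfsg.Agent.Lib.M24Recog.Affine
import Cfsg.Agent.Lib.M24Recog.Local
import Cfsg.Agent.Lib.M24Recog.FusionData

/-!
# The octad stabiliser as the affine group

* `kA`: the kernel as the four-dimensional space; `z0_mem`, `a6_mem`, `x0_not_mem`.
* `exists_hol_P1`: the isomorphism with the affine group.
-/

set_option autoImplicit false
set_option maxRecDepth 100000

namespace Cfsg.Agent.M24Recog

open Cfsg Subgroup Cfsg.Agent.Golay.Basic
open Cfsg.Agent.HeLocal.Coords (V)
open scoped Pointwise

/-- The word of an element of the kernel. -/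
def aword (n : ℕ) : List ℕ :=
  ((List.range 4).map fun k => bif n.testBit k then FusionData.aWords.getD k [] else []).flatten

/-- The number of a vector. -/
def vidx (v : V) : ℕ := (v 0).val + 2 * (v 1).val + 4 * (v 2).val + 8 * (v 3).val

theorem vidx_add : ∀ v w : V, vidx (v + w) = vidx v ^^^ vidx w ∧ vidx v < 16 ∧ (vidx v = vidx w → v = w) := by
  decide +kernel

theorem vidx_zero : vidx 0 = 0 := by decide +kernel

theorem vidx_surj : allB (fun n => Nat.blt n 16) 16 = true ∧ ∀ n : Fin 16, ∃ v : V, vidx v = n.1 := by decide +kernel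

theorem aword_check : allB (fun n => allB (fun m =>
    Nat.beq (evalT (aword n ++ aword m)) (evalT (aword (n ^^^ m))) &&
      (Nat.beq n m || !Nat.beq (evalT (aword n)) (evalT (aword m)))) 16) 16 = true := by decide +kernel

theorem aword_zero : evalT (aword 0) = idT := by decide +kernel

theorem aword_normal : allB (fun k => allB (fun n =>
    anyB (fun m => Nat.beq (evalT (k :: aword n ++ [k])) (evalT (aword m))) 16) 16) 3 = true := by decide +kernel

theorem aword_special : evalT (aword 1) = wT 1 ∧ evalT (aword 2) = wT 4 ∧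
    allB (fun n => !Nat.beq (evalT (aword n)) (wT 2)) 16 = true := by decide +kernel

/-- The kernel as a map. -/
def kA : Multiplicative V →* ↥P1 where
  toFun v := pe (aword (vidx v.toAdd))
  map_one' := by rw [toAdd_one, vidx_zero]; exact pe_eq (v := aword 0) (w := []) (by rw [aword_zero]; decide +kernel)
  map_mul' v w := by
    rw [toAdd_mul, (vidx_add _ _).1, ← pe_append]
    have h := allB_spec (allB_spec aword_check _ (vidx_add v.toAdd w.toAdd).2.1) _ (vidx_add w.toAdd v.toAdd).2.1
    simp only [Bool.and_eq_true] at h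
    exact (pe_eq (Nat.eq_of_beq_eq_true h.1)).symm

theorem kA_injective : Function.Injective kA := fun v w e => by
  have e' := congrArg pcode e
  have h := allB_spec (allB_spec aword_check _ (vidx_add v.toAdd w.toAdd).2.1) _ (vidx_add w.toAdd v.toAdd).2.1
  rw [show kA v = pe (aword (vidx v.toAdd)) from rfl, show kA w = pe (aword (vidx w.toAdd)) from rfl, pcode_pe,
    pcode_pe] at e'
  simp only [Bool.and_eq_true, e', Nat.beq_refl, Bool.not_true, Bool.or_false] at h
  exact Multiplicative.toAdd.injective ((vidx_add _ _).2.2 (Nat.eq_of_beq_eq_true h.2))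

theorem exists_kA {n : ℕ} (hn : n < 16) : ∃ v, kA v = pe (aword n) := by
  obtain ⟨v, hv⟩ := vidx_surj.2 ⟨n, hn⟩
  exact ⟨Multiplicative.ofAdd v, by show pe (aword (vidx v)) = _; rw [hv]⟩

theorem exists_pe (p : ↥P1) : ∃ w : List ℕ, (∀ k ∈ w, k < 3) ∧ pe w = p := by
  obtain ⟨m, hm⟩ := p
  induction hm using Subgroup.closure_induction with
  | mem q hq =>
    rcases hq with rfl | rfl | rfl
    · exact ⟨[0], by simp, by simp [pe]; rfl⟩
    · exact ⟨[1], by simp, by simp [pe]; rfl⟩
    · exact ⟨[2], by simp, by simp [pe]; rfl⟩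
  | one => exact ⟨[], by simp, rfl⟩
  | mul a b _ _ ha hb =>
    obtain ⟨u, hu, eu⟩ := ha
    obtain ⟨w, hw, ew⟩ := hb
    exact ⟨u ++ w, fun k hk => (List.mem_append.1 hk).elim (hu k) (hw k), by rw [pe_append, eu, ew]; rfl⟩
  | inv a _ ha =>
    obtain ⟨u, hu, eu⟩ := ha
    exact ⟨u.reverse, fun k hk => hu k (List.mem_reverse.1 hk), by rw [← pe_inv, eu]; rfl⟩

theorem kA_normal (p : ↥P1) (v : Multiplicative V) : ∃ w, p * kA v * p⁻¹ = kA w := by
  obtain ⟨l, hl, rfl⟩ := exists_pe p
  induction l generalizing v with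
  | nil => exact ⟨v, by simp [pe]⟩
  | cons k l ih =>
    obtain ⟨w, hw⟩ := ih v (fun i hi => hl i (List.mem_cons_of_mem _ hi))
    have hk := hl k List.mem_cons_self
    obtain ⟨m, hm, hm'⟩ := anyB_spec (allB_spec (allB_spec aword_normal k hk) _ (vidx_add w.toAdd w.toAdd).2.1)
    obtain ⟨u, hu⟩ := exists_kA hm
    refine ⟨u, ?_⟩
    have e := pe_eq (Nat.eq_of_beq_eq_true hm')
    have e2 : pe (k :: aword (vidx w.toAdd) ++ [k]) = gp k * kA w * gp k := by
      rw [List.cons_append, show pe (k :: (aword (vidx w.toAdd) ++ [k])) = gp k * pe (aword (vidx w.toAdd) ++ [k])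
        from rfl, pe_append, mul_assoc, show pe [k] = gp k * 1 from rfl, mul_one]
      rfl
    rw [hu, ← e, e2, show pe (k :: l) = gp k * pe l from rfl,
      show gp k * pe l * kA v * (gp k * pe l)⁻¹ = gp k * (pe l * kA v * (pe l)⁻¹) * (gp k)⁻¹ by group, hw,
      inv_eq_of_mul_eq_one_right (gp_sq k)]

theorem z0_mem : ∃ v, kA v = z0 := by
  obtain ⟨v, hv⟩ := exists_kA (show 1 < 16 by norm_num)
  exact ⟨v, hv.trans (pcode_injective (by rw [pcode_pe, aword_special.1, pcode_z0]))⟩

theorem a4_mem : ∃ v, kA v = wel 4 := by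
  obtain ⟨v, hv⟩ := exists_kA (show 2 < 16 by norm_num)
  exact ⟨v, hv.trans (pcode_injective (by rw [pcode_pe, aword_special.2.1, pcode_wel (by norm_num)]))⟩

theorem x0_not_mem (v : Multiplicative V) : kA v ≠ x0 := fun e => by
  have h := allB_spec aword_special.2.2 _ (vidx_add v.toAdd v.toAdd).2.1
  have e' := congrArg pcode e
  rw [show kA v = pe (aword (vidx v.toAdd)) from rfl, pcode_pe, pcode_x0] at e'
  simp [e'] at h

/-- The point outside the octad. -/
def pOut : GolayPt := pt FusionData.outPt

/-- The image of the point under a permutation in the stabiliser. -/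
def mv (p : ↥P1) (q : GolayPt) : GolayPt := (p : ↥M24).1 q

/-- The stabiliser of the point. -/
def LP : Subgroup ↥P1 where
  carrier := {p | mv p pOut = pOut}
  one_mem' := rfl
  mul_mem' := fun {a b} ha hb => by
    show mv a (mv b pOut) = pOut
    rw [show mv b pOut = pOut from hb]
    exact ha
  inv_mem' := fun {a} ha => by
    show mv a⁻¹ pOut = pOut
    conv_lhs => rw [← (show mv a pOut = pOut from ha)]
    exact (a : ↥M24).1.symm_apply_apply pOut

theorem out_check : pOut ∉ oct0 ∧ (Finset.univ.filter fun q : GolayPt => q ∉ oct0).card = 16 ∧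
    Cfsg.Agent.Golay.M24.forced (16777215 - Data.octMask) 16777215 = true ∧
    (∀ q : GolayPt, q ∈ maskSet (16777215 - Data.octMask) → q ∉ oct0) ∧
    (∀ q : GolayPt, q ∈ maskSet 16777215) ∧
    allB (fun i => true && (Data.octMask.testBit i ||
      anyB (fun n => Nat.beq (runT (aword n) FusionData.outPt) i) 16)) 24 = true := by
  decide +kernel

theorem card_LP : 20160 ≤ Nat.card ↥LP := by
  let F : ↥P1 ⧸ LP → {q : GolayPt // q ∉ oct0} :=
    Quotient.lift (fun p => ⟨mv p pOut, fun h => out_check.1 (by
      have hp : (p : ↥M24) • oct0 = oct0 := MulAction.mem_stabilizer_iff.1 (P1_le p.2)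
      rw [← hp, show mv p pOut = (p : ↥M24).1 pOut from rfl] at h
      exact (Finset.smul_mem_smul_finset_iff ((p : ↥M24).1)).1 h)⟩) fun a b hab => Subtype.ext (by
      have h : mv (a⁻¹ * b) pOut = pOut := QuotientGroup.leftRel_apply.1 hab
      show mv a pOut = mv b pOut
      conv_lhs => rw [← h]
      show mv a (mv a⁻¹ (mv b pOut)) = mv b pOut
      exact (a : ↥M24).1.apply_symm_apply _)
  have hF : Function.Injective F := by
    intro x y
    refine Quotient.inductionOn₂' x y fun a b e => ?_
    refine QuotientGroup.eq.2 ?_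
    have e' : mv a pOut = mv b pOut := congrArg Subtype.val e
    show mv a⁻¹ (mv b pOut) = pOut
    rw [← e']
    exact (a : ↥M24).1.symm_apply_apply pOut
  have h := Nat.card_le_card_of_injective F hF
  rw [Nat.card_eq_fintype_card (α := {q : GolayPt // q ∉ oct0}), Fintype.card_subtype, out_check.2.1] at h
  have hm := Subgroup.card_eq_card_quotient_mul_card_subgroup LP
  rw [card_P1] at hm
  nlinarith

theorem LP_faithful (l : ↥P1) (hl : l ∈ LP) (hc : ∀ v, l * kA v = kA v * l) : l = 1 := by
  obtain ⟨-, -, hforced, hout, hall, hcover⟩ := out_check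
  have hfix : ∀ q ∈ maskSet (16777215 - Data.octMask), (l : ↥M24).1 q = q := by
    intro q hq
    have h := allB_spec hcover (ix q) (ix_lt q)
    simp only [Bool.and_eq_true, Bool.or_eq_true] at h
    rcases h.2 with h | h
    · exact absurd (show q ∈ oct0 from mem_maskSet.2 h) (hout q hq)
    · obtain ⟨n, hn, hn'⟩ := anyB_spec h
      obtain ⟨v, hv⟩ := exists_kA hn
      have hq' : mv (kA v) pOut = q := ix_injective (by
        rw [hv]
        show ix (((pe (aword n) : ↥P1) : ↥M24).1 (pt FusionData.outPt)) = _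
        rw [ix_pe, ix_pt (by decide)]
        exact Nat.eq_of_beq_eq_true hn')
      show mv l q = q
      rw [← hq']
      show mv (l * kA v) pOut = _
      rw [hc v]
      show mv (kA v) (mv l pOut) = _
      rw [show mv l pOut = pOut from hl]
  refine Subtype.ext (Subtype.ext (Equiv.ext fun q => ?_))
  exact Cfsg.Agent.Golay.M24.fix_of_forced (l : ↥M24).2 hforced hfix q (hall q)

theorem exists_hol_P1 : ∃ e : Affine.Hol ≃* ↥P1, ∀ v, e (SemidirectProduct.inl v) = kA v :=
  Affine.exists_hol kA kA_injective kA_normal LP card_LP LP_faithful card_P1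

end Cfsg.Agent.M24Recog
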