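import Cfsg.Agent.Lib.M24Recog.Main
import Cfsg.Agent.Lib.M24Recog.Kernel
import Cfsg.Agent.Lib.HeLocal.End.Stab

/-!
# Recognition of `M24` from the centralizer of an involution

* `exists_phi`: the octad stabiliser onto the normaliser of the group of order sixteen.
* `Cfsg.Agent.HeLocal.Iso.nonempty_equiv_M24`: the pattern with the seventh class fused and the sixth not, and the
  order, give `M24`.
-/

set_option autoImplicit false
set_option maxRecDepth 100000

namespace Cfsg.Agent.M24Recog.OfIso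

open Cfsg Subgroup
open Cfsg.Agent.HeLocal (Mdl inA IsInv tag rep zc rowSub)
open Cfsg.Agent.InvChar.Coset.HeCent (idP)

/-- The table of the second kind of involution. -/
def w0T : ℕ := mulT (wT 4) (wT 2)

/-- The tables of its conjugates. -/
def negT : List ℕ := FusionData.negWords.map fun w => mulT (mulT (evalT w) w0T) (evalT w.reverse)

/-- Increasing. -/
def incr : List ℕ → Bool
  | a :: b :: l => Nat.blt a b && incr (b :: l)
  | _ => true

theorem negT_check : incr negT = true ∧ negT.length = 294 ∧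
    (negT.all fun c => Nat.beq (mulT c (wT 1)) (mulT (wT 1) c) && Nat.beq (mulT c c) idT && !Nat.beq c idT &&
      !Nat.beq (nfixT c) 8) = true := by decide +kernel

theorem neg_mem_check : allB (fun v => Nat.beq v 0 || zt v || negT.any fun c => Nat.beq c (wT v)) 64 = true ∧
    (negT.any fun c => Nat.beq c (kT 2)) = true := by decide +kernel

theorem incr_nodup : ∀ l : List ℕ, incr l = true → l.Nodup ∧ ∀ a ∈ l, ∀ b ∈ l.head?, b ≤ a
  | [], _ => ⟨List.nodup_nil, by simp⟩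
  | [a], _ => ⟨List.nodup_singleton a, by simp⟩
  | a :: b :: l, h => by
    simp only [incr, Bool.and_eq_true, Nat.blt_eq] at h
    obtain ⟨hn, hle⟩ := incr_nodup (b :: l) h.2
    have hlt : ∀ c ∈ b :: l, a < c := fun c hc => lt_of_lt_of_le h.1 (hle c hc b (by simp))
    refine ⟨List.nodup_cons.2 ⟨fun hm => (hlt a hm).false, hn⟩, fun c hc d hd => ?_⟩
    simp only [List.head?_cons, Option.mem_def, Option.some.injEq] at hd
    subst hd
    rcases List.mem_cons.1 hc with rfl | hc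
    exacts [le_rfl, (hlt c hc).le]

theorem side_four : (HeLocal.Code.listA.all fun a => Nat.beq a idP || Nat.beq a (HeLocal.Code.repc 0) ||
    !HeLocal.Code.cm a (HeLocal.Code.repc 2) || (HeLocal.Code.isInv (HeLocal.Code.mulF a (HeLocal.Code.repc 2)) &&
      Nat.beq (HeLocal.Code.tagc (HeLocal.Code.mulF a (HeLocal.Code.repc 2))) 3)) = true := by decide +kernel

theorem tag_side_four {a b : Mdl} (ha : inA a) (ha1 : a ≠ 1) (haz : a ≠ zc) (hb : IsInv b) (ht : tag b = 2)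
    (hc : a * b = b * a) : IsInv (a * b) ∧ tag (a * b) = 3 := by
  obtain ⟨k, hk⟩ := HeLocal.exists_conj_rep hb
  rw [ht] at hk
  have hA' : inA (k⁻¹ * a * k⁻¹⁻¹) := HeLocal.inA_conj ha k⁻¹
  set a' := k⁻¹ * a * k⁻¹⁻¹ with ha'
  have h := List.all_eq_true.1 side_four _ hA'
  have hcomm : a' * rep 2 = rep 2 * a' := by
    have e1 : a' * rep 2 = k⁻¹ * (a * b) * k := by rw [ha', ← hk]; group
    have e2 : rep 2 * a' = k⁻¹ * (b * a) * k := by rw [ha', ← hk]; group
    rw [e1, e2, hc]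
  have n1 : Nat.beq (HeLocal.code a') idP = false := Bool.eq_false_iff.2 fun e => ha1 (by
    have := HeLocal.code_inj ((Nat.eq_of_beq_eq_true e).trans HeLocal.code_one.symm)
    exact conj_eq_one_iff.1 this)
  have n0 : Nat.beq (HeLocal.code a') (HeLocal.Code.repc 0) = false := Bool.eq_false_iff.2 fun e => haz (by
    have := HeLocal.code_inj ((Nat.eq_of_beq_eq_true e).trans (HeLocal.code_rep (by norm_num)).symm)
    rw [ha', show rep 0 = zc from rfl, inv_inv] at this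
    calc a = k * (k⁻¹ * a * k) * k⁻¹ := by group
      _ = zc := by rw [this, HeLocal.zc_comm k, mul_inv_cancel_right])
  have hcm : HeLocal.Code.cm (HeLocal.code a') (HeLocal.Code.repc 2) = true := by
    rw [← HeLocal.code_rep (show 2 < 8 by norm_num)]; exact HeLocal.cm_code.2 hcomm
  rw [n1, n0, hcm] at h
  simp only [Bool.false_or, Bool.not_true, Bool.and_eq_true] at h
  rw [← HeLocal.code_rep (show 2 < 8 by norm_num), ← HeLocal.code_mul] at h
  have hi : IsInv (a' * rep 2) := HeLocal.isInv_iff.2 h.1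
  have e : a * b = k * (a' * rep 2) * k⁻¹ := by rw [ha', ← hk]; group
  rw [e]
  exact ⟨hi.conj k, (HeLocal.tag_conj hi k).trans (Nat.eq_of_beq_eq_true h.2)⟩

variable {G : Type*} [Group G] [Finite G] {z : G} (I : HeLocal.Iso z) (S : I.Sides) (h6 : ¬ I.ZType (rep 6))
include S h6

theorem exists_hol_HN : ∃ e : Affine.Hol ≃* ↥I.HN,
    ∀ v, ((e (SemidirectProduct.inl v) : ↥I.HN) : G) = (I.vG v : G) := by
  set X : Subgroup G := I.HN with hX
  have hcardX : Nat.card X = 322560 := I.card_HN_side S.one h6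
  let fA : Multiplicative (Fin 4 → ZMod 2) →* ↥X := (Subgroup.inclusion I.AG_le_HN).comp I.vG.toMonoidHom
  have hfA : ∀ v, ((fA v : ↥X) : G) = (I.vG v : G) := fun _ => rfl
  have hf : Function.Injective fA := (Subgroup.inclusion_injective I.AG_le_HN).comp I.vG.injective
  have hn : ∀ (x : ↥X) v, ∃ w, x * fA v * x⁻¹ = fA w := fun x v =>
    ⟨I.vG.symm ⟨_, I.conj_mem_AG x.2 (I.vG v).2⟩, Subtype.ext (by
      rw [hfA, MulEquiv.apply_symm_apply]; rfl)⟩
  set K : Subgroup ↥X := I.AG.subgroupOf X with hK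
  set U : Subgroup ↥X := I.ι.range.subgroupOf X with hU
  set W : Subgroup ↥X := (rowSub.map I.ι).subgroupOf X with hW
  haveI : K.Normal := ⟨fun n hn g => I.conj_mem_AG g.2 hn⟩
  haveI : IsMulCommutative K := ⟨⟨fun x y => Subtype.ext (Subtype.ext (I.AG_comm x.2 y.2))⟩⟩
  have hle : I.ι.range ≤ X := by rintro _ ⟨g, rfl⟩; exact I.ι_mem_HN g
  have hKcard : Nat.card K = 16 := by
    rw [hK, Nat.card_congr (subgroupOfEquivOfLe I.AG_le_HN).toEquiv, I.card_AG]
  have hUidx : U.index = 15 := by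
    have h := U.card_mul_index
    rw [show Nat.card U = 21504 by
      rw [hU, Nat.card_congr (subgroupOfEquivOfLe hle).toEquiv, ← Nat.card_congr (MonoidHom.ofInjective I.ι_inj).toEquiv,
        HeLocal.card_mdl], hcardX] at h
    omega
  have hKU : K ≤ U := fun x hx => by obtain ⟨a, -, e⟩ := hx; exact ⟨a, e⟩
  have hWU : W ≤ U := fun x hx => by obtain ⟨a, -, e⟩ := hx; exact ⟨a, e⟩
  have hWK : W ⊓ K = ⊥ := by
    rw [eq_bot_iff]
    rintro x ⟨⟨k, hk, e⟩, hA⟩
    have hA' : (x : G) ∈ I.AG := hA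
    refine Subtype.ext ?_
    show (x : G) = 1
    rw [← show I.ι k = (x : G) from e, HeLocal.rowSub_inA hk (I.ι_mem_AG.1 (e ▸ hA')), map_one]
  have hKW : K ⊔ W = U := by
    refine le_antisymm (sup_le hKU hWU) ?_
    rintro x ⟨g, hg⟩
    obtain ⟨p, k, hp, hk, rfl⟩ := HeLocal.exists_rowSub g
    have e : x = (⟨I.ι p, I.ι_mem_HN p⟩ : ↥X) * ⟨I.ι k, I.ι_mem_HN k⟩ :=
      Subtype.ext (hg.symm.trans (map_mul I.ι p k))
    rw [e]
    exact mul_mem (mem_sup_left (show _ ∈ K from I.ι_mem_AG.2 hp)) (mem_sup_right (show _ ∈ W from ⟨k, hk, rfl⟩))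
  obtain ⟨L, hL⟩ := Solvable.Gaschutz.exists_complement' (K := K) (U := U) (A := W) hKU
    (by rw [hKcard, hUidx]; norm_num) hWU hWK hKW
  have hLcard : 20160 ≤ Nat.card L := by
    have h := hL.card_mul_card
    rw [hKcard, hcardX] at h
    omega
  have hfaith : ∀ l ∈ L, (∀ v, l * fA v = fA v * l) → l = 1 := by
    intro l hl hc
    have hA : (l : G) ∈ I.AG := I.cent_AG fun y hy => by
      have h := congrArg Subtype.val (hc (I.vG.symm ⟨y, hy⟩))
      simpa only [Subgroup.coe_mul, hfA, MulEquiv.apply_symm_apply] using h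
    have : l ∈ K ⊓ L := ⟨hA, hl⟩
    rwa [hL.disjoint.eq_bot, mem_bot] at this
  obtain ⟨e, he⟩ := Affine.exists_hol fA hf hn L hLcard hfaith hcardX
  exact ⟨e, fun v => (congrArg Subtype.val (he v)).trans (hfA v)⟩

/-- The embedding of the octad stabiliser. -/
theorem exists_phi : ∃ φ : ↥P1 →* G, Function.Injective φ ∧ φ z0 = z ∧ (∀ v, φ (kA v) ∈ I.AG) ∧
    (∀ p, φ p ∈ I.AG → ∃ v, kA v = p) ∧ φ.range = I.HN := by
  obtain ⟨eP, hP⟩ := exists_hol_P1
  obtain ⟨eG, hG⟩ := exists_hol_HN I S h6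
  set ψ := eP.symm.trans eG with hψ
  have hA : ∀ v, ((ψ (kA v) : ↥I.HN) : G) = (I.vG v : G) := fun v => by
    rw [hψ, MulEquiv.trans_apply, ← hP v, MulEquiv.symm_apply_apply, hG]
  obtain ⟨v0, hv0⟩ := z0_mem
  obtain ⟨a, ha, hae⟩ := I.mem_AG.1 (hA v0 ▸ (I.vG v0).2 : ((ψ (kA v0) : ↥I.HN) : G) ∈ I.AG)
  have ha1 : a ≠ 1 := fun e => by
    rw [e, map_one] at hae
    have h1 : z0 = 1 := by
      rw [← hv0]
      exact ψ.injective ((Subtype.ext hae.symm : ψ (kA v0) = 1).trans ψ.map_one.symm)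
    have h2 := congrArg pfix h1
    rw [pfix_z0, pfix, pcode_one] at h2
    exact absurd h2 (by decide +kernel)
  obtain ⟨t, ht, htz⟩ := I.exists_to_side S.one h6 ha ha1
  set φ : ↥P1 →* G := (MulAut.conj t⁻¹).toMonoidHom.comp (I.HN.subtype.comp ψ.toMonoidHom) with hφ
  have hφa : ∀ p, φ p = t⁻¹ * (ψ p : G) * t := fun p => by
    show t⁻¹ * (ψ p : G) * t⁻¹⁻¹ = _
    rw [inv_inv]
  refine ⟨φ, (MulAut.conj t⁻¹).injective.comp (Subtype.val_injective.comp ψ.injective), ?_, fun v => ?_,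
    fun p hp => ?_, ?_⟩
  · rw [hφa, ← hv0, ← hae, ← htz]; group
  · rw [hφa, hA]
    have := I.conj_mem_AG (inv_mem ht) (I.vG v).2
    rwa [inv_inv] at this
  · have h1 : (ψ p : G) ∈ I.AG := by
      have := I.conj_mem_AG ht hp
      rwa [hφa, show t * (t⁻¹ * (ψ p : G) * t) * t⁻¹ = (ψ p : G) by group] at this
    refine ⟨I.vG.symm ⟨_, h1⟩, ψ.injective (Subtype.ext ?_)⟩
    rw [hA, MulEquiv.apply_symm_apply]
  · refine le_antisymm ?_ fun x hx => ?_
    · rintro _ ⟨p, rfl⟩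
      rw [hφa]
      exact mul_mem (mul_mem (inv_mem ht) (ψ p).2) ht
    · refine ⟨ψ.symm ⟨t * x * t⁻¹, mul_mem (mul_mem ht hx) (inv_mem ht)⟩, ?_⟩
      rw [hφa, MulEquiv.apply_symm_apply]
      group

/-- The hypotheses of the recognition. -/
theorem exists_hyp (h7 : I.ZType (rep 7)) : ∃ φ : ↥P1 →* G, Hyp φ := by
  classical
  obtain ⟨φ, hinj, hz, hkA, hkA', hrange⟩ := exists_phi I S h6
  have hmem : ∀ g : Mdl, ∃ p : ↥P1, p * z0 = z0 * p ∧ φ p = I.ι g := fun g => by
    obtain ⟨p, hp⟩ : I.ι g ∈ φ.range := hrange ▸ I.ι_mem_HN g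
    exact ⟨p, hinj (by rw [map_mul, map_mul, hz, hp, I.ι_comm]), hp⟩
  have hsel : ∀ p : ↥P1, ∃ g : Mdl, p * z0 = z0 * p → I.ι g = φ p := fun p => by
    by_cases h : p * z0 = z0 * p
    · obtain ⟨g, hg⟩ := I.exists_ι (x := φ p) (by rw [← hz, ← map_mul, h, map_mul])
      exact ⟨g, fun _ => hg⟩
    · exact ⟨1, fun h' => absurd h' h⟩
  choose μ hμ using hsel
  have hinv : ∀ p : ↥P1, p * z0 = z0 * p → p * p = 1 → p ≠ 1 → IsInv (μ p) := fun p hc h2 h1 =>
    I.isInv_of (by rw [hμ p hc, ← map_mul, h2, map_one]) fun e => h1 (hinj (by rw [← hμ p hc, e, map_one]))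
  have hcent : ∀ g : G, g * φ z0 = φ z0 * g → g ∈ φ.range := fun g hg => by
    obtain ⟨k, rfl⟩ := I.exists_ι (x := g) (by rwa [hz] at hg)
    exact hrange ▸ I.ι_mem_HN k
  -- the second involution
  have hwc : ∀ v, v < 64 → wel v * z0 = z0 * wel v ∧ wel v * x0 = x0 * wel v := fun v hv => wel_comm hv
  have hx0 : x0 = wel 2 := by rw [x0, tel_w (by norm_num)]
  have hz0 : z0 = wel 1 := by rw [z0, tel_w (by norm_num)]
  have hne : ∀ {v : ℕ}, v < 64 → v ≠ 0 → wel v ≠ 1 := fun hv h0 e =>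
    h0 (wel_inj hv (by norm_num) (e.trans wel_zero.symm))
  have hxc : x0 * z0 = z0 * x0 := hx0 ▸ (hwc 2 (by norm_num)).1
  have hgb := hinv x0 hxc (hx0 ▸ wel_sq (by norm_num)) (hx0 ▸ hne (by norm_num) (by norm_num))
  have hgbA : ¬ inA (μ x0) := fun h => by
    obtain ⟨v, hv⟩ := hkA' x0 (hμ x0 hxc ▸ I.ι_mem_AG.2 h)
    exact x0_not_mem v hv
  have hgb2 : tag (μ x0) = 2 := by
    have hC : 1536 ≤ Nat.card (centralizer ({μ x0} : Set Mdl)) := by
      refine le_trans card_TT_ge (Nat.card_le_card_of_injective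
        (fun t : ↥TT => (⟨μ t.1, mem_centralizer_singleton_iff.2 (I.ι_inj ?_)⟩ : centralizer ({μ x0} : Set Mdl)))
        fun a b e => ?_)
      · have h1 := mem_centralizer_singleton_iff.1 t.2.1
        rw [map_mul, map_mul, hμ _ h1, hμ _ hxc, ← map_mul, mem_centralizer_singleton_iff.1 t.2.2, map_mul]
      · have e' := congrArg (fun x : centralizer ({μ x0} : Set Mdl) => I.ι x) e
        simp only [hμ _ (mem_centralizer_singleton_iff.1 a.2.1), hμ _ (mem_centralizer_singleton_iff.1 b.2.1)] at e'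
        exact Subtype.ext (hinj e')
    have hc := HeLocal.card_cent hgb
    have h8 := HeLocal.tag_lt hgb
    have h1 : ¬ tag (μ x0) ≤ 1 := fun h => hgbA (HeLocal.inA_iff.2 (Or.inr ⟨hgb, h⟩))
    have hs : ∀ i < 8, ¬ i ≤ 1 → i ≠ 2 → 15 ≤ HeLocal.Code.sizes.getD i 0 := by decide
    by_contra h2
    have := Nat.mul_le_mul (hs _ h8 h1 h2) hC
    omega
  -- the conjugates of the other involution
  have h4c := hwc 4 (by norm_num)
  have hga := hinv (wel 4) h4c.1 (wel_sq (by norm_num)) (hne (by norm_num) (by norm_num))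
  have hgaA : inA (μ (wel 4)) := by
    obtain ⟨v, hv⟩ := a4_mem
    exact I.ι_mem_AG.1 (by rw [hμ _ h4c.1, ← hv]; exact hkA v)
  obtain ⟨hgi, hg3⟩ := tag_side_four hgaA hga.2 (fun e => by
      have h := hμ _ h4c.1
      rw [e, I.ι_zc, ← hz, hz0] at h
      exact absurd (wel_inj (by norm_num) (by norm_num) (hinj h)) (by norm_num)) hgb hgb2
    (I.ι_inj (by rw [map_mul, map_mul, hμ _ h4c.1, hμ _ hxc, ← map_mul, h4c.2, map_mul]))
  have hw0 : ¬ IsConj z (φ (wel 4 * x0)) := fun h => by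
    refine I.not_zType_three (hg3 ▸ (I.zType_iff_rep hgi).1 ?_)
    rwa [HeLocal.Iso.ZType, map_mul, hμ _ h4c.1, hμ _ hxc, ← map_mul]
  obtain ⟨hincr, hlen, hall⟩ := negT_check
  have hneg : ∀ i : Fin 294, ∃ p : ↥P1, pcode p = negT.getD i 0 ∧ p * z0 = z0 * p ∧ p * p = 1 ∧ p ≠ 1 ∧
      pfix p ≠ 8 ∧ ¬ IsConj z (φ p) := by
    intro i
    have hi : i.1 < negT.length := hlen.symm ▸ i.2
    have hi' : i.1 < FusionData.negWords.length := by rwa [negT, List.length_map] at hi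
    have hb := List.all_eq_true.1 hall _ (List.getElem_mem hi)
    rw [← List.getD_eq_getElem _ 0 hi] at hb
    simp only [Bool.and_eq_true, Bool.not_eq_true'] at hb
    obtain ⟨⟨⟨b1, b2⟩, b3⟩, b4⟩ := hb
    set w := FusionData.negWords[i.1] with hw
    set pp : ↥P1 := pe w * (wel 4 * x0) * (pe w)⁻¹ with hpp
    have hp : pcode pp = negT.getD i 0 := by
      rw [List.getD_eq_getElem _ 0 hi, hpp, pe_inv]
      simp only [negT, List.getElem_map, pcode_mul, pcode_pe, pcode_wel (show 4 < 64 by norm_num), pcode_x0, w0T, hw]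
    refine ⟨pp, hp, pcode_injective ?_, pcode_injective ?_, fun e => ?_, fun e => ?_, fun h => hw0 ?_⟩
    · rw [pcode_mul pp z0, pcode_mul z0 pp, hp, pcode_z0]; exact Nat.eq_of_beq_eq_true b1
    · rw [pcode_mul pp pp, hp, pcode_one]; exact Nat.eq_of_beq_eq_true b2
    · rw [← hp, e, pcode_one, Nat.beq_refl] at b3; exact Bool.noConfusion b3
    · rw [← hp, show nfixT (pcode pp) = 8 from e, Nat.beq_refl] at b4
      exact Bool.noConfusion b4
    · refine h.trans (isConj_iff.2 ⟨(φ (pe w))⁻¹, ?_⟩)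
      rw [hpp, map_mul, map_mul, map_inv]; group
  choose q hqc hqz hq2 hq1 hqf hqn using hneg
  have hqinj : Function.Injective q := fun i j e => Fin.ext (by
    have hi : i.1 < negT.length := hlen.symm ▸ i.2
    have hj : j.1 < negT.length := hlen.symm ▸ j.2
    have h : negT.getD i 0 = negT.getD j 0 := by rw [← hqc i, e, hqc j]
    rw [List.getD_eq_getElem _ 0 hi, List.getD_eq_getElem _ 0 hj] at h
    exact (incr_nodup _ hincr).1.getElem_inj_iff.1 h)
  have hzt : ∀ {g : Mdl}, IsInv g → ¬ (tag g = 3 ∨ tag g = 5 ∨ tag g = 6) → I.ZType g := by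
    intro g hg hno
    refine (I.zType_iff_rep hg).2 ?_
    have h8 := HeLocal.tag_lt hg
    generalize tag g = i at hno h8
    interval_cases i
    all_goals first
      | exact I.zType_zc | exact S.one | exact S.two | exact S.four | exact h7 | exact absurd (by norm_num) hno
  let T := {g : Mdl // IsInv g ∧ (tag g = 3 ∨ tag g = 5 ∨ tag g = 6)}
  have hTcard : Nat.card T ≤ 294 := by
    have e : ∀ k < 8, ({g : Mdl | IsInv g ∧ tag g = k}).ncard = HeLocal.Code.sizes.getD k 0 := fun k hk =>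
      HeLocal.card_class hk
    calc Nat.card T = ({g : Mdl | IsInv g ∧ (tag g = 3 ∨ tag g = 5 ∨ tag g = 6)}).ncard := rfl
      _ = ({g : Mdl | IsInv g ∧ tag g = 3} ∪ ({g : Mdl | IsInv g ∧ tag g = 5} ∪
            {g : Mdl | IsInv g ∧ tag g = 6})).ncard := by
          congr 1; ext g; simp only [Set.mem_setOf_eq, Set.mem_union, and_or_left]
      _ ≤ _ := (Set.ncard_union_le _ _).trans (Nat.add_le_add_left (Set.ncard_union_le _ _) _)
      _ = 294 := by rw [e 3 (by norm_num), e 5 (by norm_num), e 6 (by norm_num)]; rfl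
  let f : Fin 294 → T := fun i => ⟨μ (q i), hinv _ (hqz i) (hq2 i) (hq1 i), by
    by_contra hno
    exact hqn i (hμ _ (hqz i) ▸ hzt (hinv _ (hqz i) (hq2 i) (hq1 i)) hno)⟩
  have hfinj : Function.Injective f := fun i j e => hqinj (hinj (by
    rw [← hμ _ (hqz i), ← hμ _ (hqz j), show μ (q i) = μ (q j) from congrArg Subtype.val e]))
  have hfsurj : Function.Surjective f := ((Nat.bijective_iff_injective_and_card f).2
    ⟨hfinj, le_antisymm (Nat.card_le_card_of_injective f hfinj) (by rwa [Nat.card_fin])⟩).2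
  have hpos : ∀ p : ↥P1, p * z0 = z0 * p → p * p = 1 → p ≠ 1 → pfix p = 8 → IsConj (φ z0) (φ p) := by
    intro p hc h2 h1 h8
    rw [hz, ← hμ p hc]
    refine hzt (hinv p hc h2 h1) fun hno => ?_
    obtain ⟨i, hi⟩ := hfsurj ⟨μ p, hinv p hc h2 h1, hno⟩
    have e : q i = p := hinj (by rw [← hμ _ (hqz i), ← hμ p hc, show μ (q i) = μ p from congrArg Subtype.val hi])
    exact hqf i (e ▸ h8)
  have hnot : ∀ p : ↥P1, (negT.any fun c => Nat.beq c (pcode p)) = true → ¬ IsConj (φ z0) (φ p) := by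
    intro p hp
    obtain ⟨c, hc, hc'⟩ := List.any_eq_true.1 hp
    obtain ⟨i, hi, hi'⟩ := List.getElem_of_mem hc
    have e : q ⟨i, hlen ▸ hi⟩ = p := pcode_injective (by
      rw [hqc, List.getD_eq_getElem _ 0 hi, hi', Nat.eq_of_beq_eq_true hc'])
    rw [hz, ← e]
    exact hqn _
  refine ⟨φ, hinj, hcent, fun v hv h0 => ⟨fun h => ?_, fun h => ?_⟩, hpos, hnot _ (by
    rw [pcode_kk]; exact neg_mem_check.2), ?_⟩
  · by_contra hzf
    have hb := allB_spec neg_mem_check.1 v hv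
    simp only [Bool.or_eq_true] at hb
    rcases hb with (hb | hb) | hb
    · exact h0 (Nat.eq_of_beq_eq_true hb)
    · exact hzf hb
    · exact hnot (wel v) (by rw [pcode_wel hv]; exact hb) h
  · refine hpos _ (hwc v hv).1 (wel_sq hv) (hne hv h0) ?_
    have hb := allB_spec zt_check v hv
    simp only [Bool.or_eq_true, beq_iff_eq] at hb
    rcases hb with hb | hb
    · exact absurd (Nat.eq_of_beq_eq_true hb) h0
    · rw [h] at hb
      rw [pfix, pcode_wel hv]
      exact Nat.eq_of_beq_eq_true hb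
  · obtain ⟨s, hs, hs'⟩ := I.swap.exists_swap_side ((I.swap_zType (by norm_num)).2 S.two)
    rw [HeLocal.Iso.swap_ι] at hs hs'
    obtain ⟨hei, het⟩ := HeLocal.Theta.equiv_rep (show 1 < 8 by norm_num)
    obtain ⟨k, hk⟩ := HeLocal.exists_conj_of_tag_eq hei hgb (by rw [het, hgb2]; rfl)
    have hx : φ x0 = I.ι k * I.ι (HeLocal.Theta.equiv (rep 1)) * (I.ι k)⁻¹ := by
      rw [← map_inv, ← map_mul, ← map_mul, hk, hμ _ hxc]
    have hkz : ∀ c : G, I.ι k * z * (I.ι k)⁻¹ = z := fun _ => by rw [I.ι_comm k, mul_inv_cancel_right]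
    have hkz' : (I.ι k)⁻¹ * z * I.ι k = z := by rw [mul_assoc, ← I.ι_comm k, inv_mul_cancel_left]
    refine ⟨I.ι k * s * (I.ι k)⁻¹, ?_, ?_⟩
    · rw [hx, hz]
      calc I.ι k * s * (I.ι k)⁻¹ * z * (I.ι k * s * (I.ι k)⁻¹)⁻¹
          = I.ι k * (s * ((I.ι k)⁻¹ * z * I.ι k) * s⁻¹) * (I.ι k)⁻¹ := by group
        _ = _ := by rw [hkz', hs']
    · rw [hx, hz]
      calc I.ι k * s * (I.ι k)⁻¹ * (I.ι k * I.ι (HeLocal.Theta.equiv (rep 1)) * (I.ι k)⁻¹) *
            (I.ι k * s * (I.ι k)⁻¹)⁻¹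
          = I.ι k * (s * I.ι (HeLocal.Theta.equiv (rep 1)) * s⁻¹) * (I.ι k)⁻¹ := by group
        _ = I.ι k * z * (I.ι k)⁻¹ := by rw [hs]
        _ = _ := hkz 1

end Cfsg.Agent.M24Recog.OfIso

namespace Cfsg.Agent.HeLocal.Iso

/-- `M24` from the centralizer of an involution. -/
theorem nonempty_equiv_M24 {G : Type*} [Group G] {z : G} (I : Iso z) [Finite G] (S : I.Sides)
    (h7 : I.ZType (rep 7)) (h6 : ¬ I.ZType (rep 6)) (hcard : Nat.card G = 244823040) :
    Nonempty (G ≃* ↥Cfsg.M24) := by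
  obtain ⟨φ, H⟩ := M24Recog.OfIso.exists_hyp I S h6 h7
  exact M24Recog.exists_equiv H hcard

end Cfsg.Agent.HeLocal.Iso
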