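import Cfsg.Agent.Lib.HeLocal.FusionLinear

/-!
# A group with a complemented four-dimensional kernel and the whole linear group is the affine group

* `exists_hol`: the isomorphism with the holomorph, with given kernel map.
-/

set_option autoImplicit false

namespace Cfsg.Agent.M24Recog.Affine

open Subgroup
open Cfsg.Agent.HeLocal.Coords (V GLV card_GLV autLin autLin_injective)

/-- The space, multiplicatively. -/
abbrev MV : Type := Multiplicative V

/-- The affine group. -/
abbrev Hol : Type := MV ⋊[MonoidHom.id (MulAut MV)] MulAut MV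

theorem card_aut_le : Nat.card (MulAut MV) ≤ 20160 := by
  rw [← card_GLV]
  let e := (Matrix.GeneralLinearGroup.toLin (n := Fin 4) (R := ZMod 2)).symm
  haveI : Finite GLV := Nat.finite_of_card_ne_zero (by rw [card_GLV]; norm_num)
  exact Nat.card_le_card_of_injective (fun f => e (autLin f)) (e.injective.comp autLin_injective)

variable {X : Type*} [Group X] [Finite X]

theorem exists_hol (fA : MV →* X) (hf : Function.Injective fA) (hn : ∀ x v, ∃ w, x * fA v * x⁻¹ = fA w)
    (L : Subgroup X) (hL : 20160 ≤ Nat.card L) (hfaith : ∀ l ∈ L, (∀ v, l * fA v = fA v * l) → l = 1)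
    (hX : Nat.card X = 322560) : ∃ e : Hol ≃* X, ∀ v, e (SemidirectProduct.inl v) = fA v := by
  classical
  haveI hnorm : fA.range.Normal := ⟨by
    rintro _ ⟨v, rfl⟩ x
    obtain ⟨w, hw⟩ := hn x v
    exact ⟨w, hw.symm⟩⟩
  let ρ : ↥L →* MulAut MV :=
    (MulAut.congr (MonoidHom.ofInjective hf).symm).toMonoidHom.comp
      ((MulAut.conjNormal (H := fA.range)).comp L.subtype)
  have hρ : ∀ (l : ↥L) (v : MV), fA (ρ l v) = (l : X) * fA v * (l : X)⁻¹ := by
    intro l v
    show fA ((MonoidHom.ofInjective hf).symm (MulAut.conjNormal (l : X) (MonoidHom.ofInjective hf v))) = _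
    rw [MonoidHom.apply_ofInjective_symm, MulAut.conjNormal_apply]
    rfl
  have hρinj : Function.Injective ρ := by
    rw [injective_iff_map_eq_one]
    intro l hl
    refine Subtype.ext (hfaith l l.2 fun v => ?_)
    have := hρ l v
    rw [hl] at this
    exact mul_inv_eq_iff_eq_mul.1 this.symm
  have hρbij : Function.Bijective ρ := by
    refine (Nat.bijective_iff_injective_and_card ρ).2 ⟨hρinj, le_antisymm ?_ (card_aut_le.trans hL)⟩
    exact Nat.card_le_card_of_injective ρ hρinj
  let σ : ↥L ≃* MulAut MV := MulEquiv.ofBijective ρ hρbij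
  let fg : MulAut MV →* X := L.subtype.comp σ.symm.toMonoidHom
  let Φ : Hol →* X := SemidirectProduct.lift fA fg (fun g => MonoidHom.ext fun v => by
    show fA (g v) = fg g * fA v * (fg g)⁻¹
    have h := hρ (σ.symm g) v
    rw [show ρ (σ.symm g) = g from σ.apply_symm_apply g] at h
    exact h)
  have hΦinj : Function.Injective Φ := by
    rw [injective_iff_map_eq_one]
    rintro ⟨v, g⟩ h
    have h' : fA v * fg g = 1 := h
    have hgA : (fg g : X) = fA v⁻¹ := by rw [map_inv]; exact (eq_inv_of_mul_eq_one_right h')
    have hg : g = 1 := by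
      have h1 : σ.symm g = 1 := Subtype.ext (hfaith _ (σ.symm g).2 fun w => by
        show fg g * fA w = fA w * fg g
        rw [hgA, ← map_mul, ← map_mul, mul_comm])
      simpa using congrArg σ h1
    subst hg
    rw [map_one, mul_one] at h'
    have hv : v = 1 := hf (h'.trans (map_one fA).symm)
    subst hv
    rfl
  have hcard : Nat.card Hol = 322560 := by
    rw [SemidirectProduct.card, ← hX]
    refine le_antisymm ?_ ?_
    · rw [← SemidirectProduct.card]
      exact Nat.card_le_card_of_injective Φ hΦinj
    · rw [hX, ← Nat.card_congr σ.toEquiv]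
      have : Nat.card MV = 16 := by
        rw [Nat.card_congr Multiplicative.toAdd, Nat.card_fun, Nat.card_zmod, Nat.card_fin]; norm_num
      rw [this]
      omega
  exact ⟨MulEquiv.ofBijective Φ ((Nat.bijective_iff_injective_and_card Φ).2 ⟨hΦinj, hcard.trans hX.symm⟩),
    fun v => by simp [Φ]⟩

end Cfsg.Agent.M24Recog.Affine
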