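import Cfsg.Agent.Lib.M24Recog.CertData

/-!
# The coset table: a part of the steps
-/

set_option autoImplicit false
set_option linter.all false

namespace Cfsg.Agent.M24Recog.CertData

open Cfsg.Agent.CosetCert

theorem steps5 : rangeOK cert 10000 2000 = true := by decide +kernel

end Cfsg.Agent.M24Recog.CertData
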