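import Cfsg.Agent.Lib.CosetCert.Cox
import Cfsg.Agent.Lib.M24Recog.CertSteps0
import Cfsg.Agent.Lib.M24Recog.CertSteps1
import Cfsg.Agent.Lib.M24Recog.CertSteps2
import Cfsg.Agent.Lib.M24Recog.CertSteps3
import Cfsg.Agent.Lib.M24Recog.CertSteps4
import Cfsg.Agent.Lib.M24Recog.CertSteps5
import Cfsg.Agent.Lib.M24Recog.CertSteps6
import Cfsg.Agent.Lib.M24Recog.CertSteps7
import Cfsg.Agent.Lib.M24Recog.CertSteps8

/-!
# The coset table is closed
-/

set_option autoImplicit false
set_option linter.all false

namespace Cfsg.Agent.M24Recog.CertData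

open Cfsg.Agent.CosetCert

theorem edges0 : edgesOK table tgtTree 0 759 = true := by decide +kernel

theorem upto0 : ∀ i < 2000, stepOK cert i = true :=
  steps_add 0 2000 (steps_zero cert) steps0

theorem upto1 : ∀ i < 4000, stepOK cert i = true :=
  steps_add 2000 2000 (upto0) steps1

theorem upto2 : ∀ i < 6000, stepOK cert i = true :=
  steps_add 4000 2000 (upto1) steps2

theorem upto3 : ∀ i < 8000, stepOK cert i = true :=
  steps_add 6000 2000 (upto2) steps3

theorem upto4 : ∀ i < 10000, stepOK cert i = true :=
  steps_add 8000 2000 (upto3) steps4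

theorem upto5 : ∀ i < 12000, stepOK cert i = true :=
  steps_add 10000 2000 (upto4) steps5

theorem upto6 : ∀ i < 14000, stepOK cert i = true :=
  steps_add 12000 2000 (upto5) steps6

theorem upto7 : ∀ i < 16000, stepOK cert i = true :=
  steps_add 14000 2000 (upto6) steps7

theorem upto8 : ∀ i < 16273, stepOK cert i = true :=
  steps_add 16000 273 (upto7) steps8

theorem closed : Closed table where
  start := by decide +kernel
  steps := upto8
  cells := edges_add 0 759 (edges_zero table) edges0
  root := by decide +kernel
  pos := by decide +kernel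

end Cfsg.Agent.M24Recog.CertData
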