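import Cfsg.Agent.Lib.M24Recog.Coords

/-!
# Finite facts about the centraliser of the two involutions
-/

set_option autoImplicit false
set_option maxRecDepth 100000

namespace Cfsg.Agent.M24Recog

/-- Some index below `n`. -/
def anyB (f : ℕ → Bool) : ℕ → Bool
  | 0 => false
  | n + 1 => f n || anyB f n

theorem anyB_spec {f : ℕ → Bool} : ∀ {n : ℕ}, anyB f n = true → ∃ i < n, f i = true
  | 0, h => absurd h (by simp [anyB])
  | n + 1, h => by
    simp only [anyB, Bool.or_eq_true] at h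
    rcases h with h | h
    · exact ⟨n, by omega, h⟩
    · obtain ⟨i, hi, h'⟩ := anyB_spec h
      exact ⟨i, by omega, h'⟩

/-- The number of indices below `n`. -/
def countB (f : ℕ → Bool) : ℕ → ℕ
  | 0 => 0
  | n + 1 => bif f n then countB f n + 1 else countB f n

theorem countB_eq (f : ℕ → Bool) : ∀ n, countB f n = ((Finset.range n).filter fun i => f i = true).card
  | 0 => rfl
  | n + 1 => by
    rw [countB, Finset.range_add_one, Finset.filter_insert, countB_eq f n]
    cases h : f n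
    · simp
    · simp

/-- The size of a centraliser in coordinates. -/
def cnt (n : ℕ) : ℕ := countB (fun m => Nat.beq (tmul n m) (tmul m n)) 1536

/-- Eight fixed points. -/
def zt (v : ℕ) : Bool := Data.ztMask.testBit v

/-- The swap on the group of order 64. -/
def sw (v : ℕ) : ℕ := Nat.lor (Nat.lor (Nat.lor (v % 2 * 2) (v / 2 % 2)) (Nat.lor (v / 4 % 2 * 16) (v / 8 % 2 * 32)))
  (Nat.lor (v / 16 % 2 * 4) (v / 32 % 2 * 8))

/-- The three elements. -/
def kk (i : ℕ) : ↥P1 := pe (Data.kWords.getD i [])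

/-- Their tables. -/
def kT (i : ℕ) : ℕ := evalT (Data.kWords.getD i [])

/-- Their action. -/
def ak (i v : ℕ) : ℕ := (Data.akTab.getD i 0 >>> (6 * v)) % 64

/-- The table of an element in coordinates. -/
def tT (n : ℕ) : ℕ := mulT (wT (n % 64)) (sT' (n / 64))

theorem pcode_kk (i : ℕ) : pcode (kk i) = kT i := pcode_pe _

theorem pcode_tel {n : ℕ} (hn : n < 1536) : pcode (tel n) = tT n := by
  rw [tel, pcode_mul, pcode_wel (Nat.mod_lt _ (by norm_num)), pcode_sel (by omega), tT]

theorem zt_check : allB (fun v => Nat.beq v 0 || (Nat.beq (nfixT (wT v)) 8 == zt v)) 64 = true := by decide +kernel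

theorem top_bit : ∀ n < 6, ∀ v < 2 ^ (n + 1),
    (v.testBit n = true → v ^^^ 2 ^ n < 2 ^ n ∧ sw v = sw (v ^^^ 2 ^ n) ^^^ sw (2 ^ n)) ∧
      (v.testBit n = false → v < 2 ^ n) := by decide +kernel

theorem sw_lt : ∀ v < 64, sw v < 64 ∧ sw (sw v) = v := by decide +kernel

theorem tmul_low : allB (fun a => allB (fun b => Nat.beq (tmul a b) (a ^^^ b)) 64) 64 = true := by decide +kernel

theorem w6_check : allB (fun m => !Nat.beq (tmul m m) 0 || Nat.blt m 64 || Nat.blt (cnt m) 256) 1536 = true := by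
  decide +kernel

theorem basis_cnt : allB (fun k => Nat.ble 256 (cnt (2 ^ k)) && Nat.beq (tmul (2 ^ k) (2 ^ k)) 0) 6 = true := by
  decide +kernel

theorem cent_w6_check : allB (fun n => Nat.blt n 64 ||
    !allB (fun k => Nat.beq (tmul n (2 ^ k)) (tmul (2 ^ k) n)) 6) 1536 = true := by decide +kernel

/-- The images of the basis under a map with given values. -/
def fim (A B C D : ℕ) : ℕ → ℕ
  | 0 => 2
  | 1 => 1
  | 2 => A
  | 3 => B
  | 4 => C
  | _ => D

/-- The value on a vector. -/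
def fv (f : ℕ → ℕ) (v : ℕ) : ℕ :=
  Nat.xor (Nat.xor (Nat.xor (bif v.testBit 0 then f 0 else 0) (bif v.testBit 1 then f 1 else 0))
      (Nat.xor (bif v.testBit 2 then f 2 else 0) (bif v.testBit 3 then f 3 else 0)))
    (Nat.xor (bif v.testBit 4 then f 4 else 0) (bif v.testBit 5 then f 5 else 0))

theorem fcase_check : allB (fun A => !(zt A && zt (A ^^^ 2) && !zt (A ^^^ 1)) || allB (fun B =>
    !(zt B && zt (B ^^^ 2) && !zt (B ^^^ 1) && zt (A ^^^ B)) || allB (fun C =>
    !(zt C && zt (C ^^^ 1) && !zt (C ^^^ 2) && zt (A ^^^ C)) || allB (fun D =>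
    !(zt D && zt (D ^^^ 1) && !zt (D ^^^ 2) && zt (B ^^^ D) && zt (C ^^^ D)) ||
      anyB (fun v => !Nat.beq v 0 && Nat.beq (fv (fim A B C D) v) 0) 64 ||
      anyB (fun j => allB (fun k => Nat.beq (fv (fim A B C D) (ac j (2 ^ k))) (sw (2 ^ k))) 6) 24) 64) 64) 64) 64 =
    true := by decide +kernel

theorem zt_pattern : zt 4 = true ∧ zt 5 = true ∧ zt 6 = false ∧ zt 8 = true ∧ zt 9 = true ∧ zt 10 = false ∧
    zt 12 = true ∧ zt 16 = true ∧ zt 18 = true ∧ zt 17 = false ∧ zt 20 = true ∧ zt 32 = true ∧ zt 34 = true ∧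
    zt 33 = false ∧ zt 40 = true ∧ zt 48 = true := by decide +kernel

theorem ak_check : allB (fun i => allB (fun v => Nat.blt (ak i v) 64 &&
    Nat.beq (mulT (kT i) (wT v)) (mulT (wT (ak i v)) (kT i)) && Nat.beq (sw (ak i (sw v))) (ak i v)) 64) 3 = true := by
  decide +kernel

theorem seven_check : allB (fun u => anyB (fun v =>
    Nat.beq (mulT (mulT (wT v) (mulT (kT 0) (wT u))) (wT v)) (kT 0)) 64) 64 = true := by decide +kernel

theorem three_rel : mulT (kT 1) (kT 0) = mulT (mulT (kT 0) (kT 0)) (kT 1) := by decide +kernel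

theorem three_check : allB (fun u => Nat.beq u 0 || !Nat.beq (mulT (mulT (kT 1) (wT u)) (kT 0))
    (mulT (mulT (kT 0) (kT 0)) (mulT (kT 1) (wT u)))) 64 = true := by decide +kernel

/-- The table of the cube of the product in the relation. -/
def relT (a : ℕ) : ℕ := mulT (mulT (kT 0) (mulT (kT 0) (kT 0))) a

/-- The cube. -/
def cubeT (a : ℕ) : ℕ := mulT (relT a) (mulT (relT a) (relT a))

theorem inv_rel : kT 2 = tT (64 * Data.iIdx) ∧ mulT (kT 2) (kT 2) = idT ∧ nfixT (kT 2) ≠ 8 ∧
    cubeT (kT 2) = idT := by decide +kernel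

theorem inv_check : allB (fun u => Nat.beq u 0 || !Nat.beq (mulT (mulT (kT 2) (wT u)) (mulT (kT 2) (wT u))) idT ||
    Nat.beq (nfixT (mulT (kT 2) (wT u))) 8 || !Nat.beq (cubeT (mulT (kT 2) (wT u))) idT) 64 = true := by decide +kernel

/-- The table of a generator of the group of order `10752`. -/
def jT (k : ℕ) : ℕ := bif Nat.blt k 6 then wT (2 ^ k) else kT (k - 6)

theorem cent_j_check : allB (fun n => Nat.beq n 0 ||
    !allB (fun k => Nat.beq (mulT (tT n) (jT k)) (mulT (jT k) (tT n))) 9) 1536 = true := by decide +kernel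

end Cfsg.Agent.M24Recog
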