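import Cfsg.Agent.Lib.Golay.M24

/-!
# Codes for permutations of the 24 points

* `code g`: the table of `g`, five bits for each point; injective, multiplicative for `mulT`.
* `nfixT`: the number of fixed points.
* `card_le_mul`: many conjugators bound a centraliser.
-/

set_option autoImplicit false

namespace Cfsg.Agent.M24Recog

open Cfsg Cfsg.Agent.Golay.Basic Cfsg.Agent.Golay.M24

/-- The indices. -/
def idx24 : List ℕ := [0, 1, 2, 3, 4, 5, 6, 7, 8, 9, 10, 11, 12, 13, 14, 15, 16, 17, 18, 19, 20, 21, 22, 23]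

/-- Five bits for each entry. -/
def encL : List ℕ → ℕ
  | [] => 0
  | a :: l => a + 32 * encL l

/-- The table of a function on the indices. -/
def enc (f : ℕ → ℕ) : ℕ := encL (idx24.map f)

theorem tabAt_cons_zero {a : ℕ} (ha : a < 32) (e : ℕ) : tabAt (a + 32 * e) 0 = a := by
  rw [tabAt, Nat.mul_zero, Nat.shiftRight_zero]
  omega

theorem tabAt_cons_succ {a : ℕ} (ha : a < 32) (e i : ℕ) : tabAt (a + 32 * e) (i + 1) = tabAt e i := by
  rw [tabAt, tabAt, show 5 * (i + 1) = 5 + 5 * i by ring, Nat.shiftRight_add,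
    Nat.shiftRight_eq_div_pow (a + 32 * e) 5]
  rw [show (a + 32 * e) / 2 ^ 5 = e by norm_num; omega]

theorem tabAt_encL : ∀ l : List ℕ, (∀ a ∈ l, a < 32) → ∀ i < l.length, tabAt (encL l) i = l.getD i 0
  | [], _, i, hi => absurd hi (by simp)
  | a :: l, h, 0, _ => tabAt_cons_zero (h a List.mem_cons_self) _
  | a :: l, h, i + 1, hi => by
    rw [encL, tabAt_cons_succ (h a List.mem_cons_self),
      tabAt_encL l (fun b hb => h b (List.mem_cons_of_mem _ hb)) i (by simpa using hi)]
    rfl

theorem tabAt_enc {f : ℕ → ℕ} (hf : ∀ i < 24, f i < 32) {i : ℕ} (hi : i < 24) : tabAt (enc f) i = f i := by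
  have hl : ∀ a ∈ idx24, a < 24 := by decide
  have hg : ∀ j < 24, idx24.getD j 0 = j := by decide
  rw [enc, tabAt_encL _ (fun a ha => by
      obtain ⟨j, hj, rfl⟩ := List.mem_map.1 ha
      exact hf j (hl j hj)) i (by simpa [idx24] using hi),
    List.getD_eq_getElem _ _ (by simpa [idx24] using hi), List.getElem_map, ← List.getD_eq_getElem _ 0,
    hg i hi]

theorem enc_congr {f g : ℕ → ℕ} (h : ∀ i < 24, f i = g i) : enc f = enc g := by
  rw [enc, enc]
  exact congrArg encL (List.map_congr_left fun a ha => h a ((by decide : ∀ a ∈ idx24, a < 24) a ha))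

/-- Composition of tables. -/
def mulT (a b : ℕ) : ℕ := enc fun i => tabAt a (tabAt b i)

/-- The identity table. -/
def idT : ℕ := enc fun i => i

/-- The number of fixed points of a table. -/
def nfixT (a : ℕ) : ℕ := (idx24.filter fun i => Nat.beq (tabAt a i) i).length

/-- The table of a permutation. -/
def code (g : Equiv.Perm GolayPt) : ℕ := enc fun i => ix (g (pt i))

theorem tabAt_code (g : Equiv.Perm GolayPt) {i : ℕ} (hi : i < 24) : tabAt (code g) i = ix (g (pt i)) :=
  tabAt_enc (fun _ _ => lt_trans (ix_lt _) (by norm_num)) hi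

theorem code_injective : Function.Injective code := fun g h e => Equiv.ext fun p => ix_injective <| by
  rw [← pt_ix p, ← tabAt_code g (ix_lt p), ← tabAt_code h (ix_lt p), e]

theorem code_mul (g h : Equiv.Perm GolayPt) : code (g * h) = mulT (code g) (code h) :=
  enc_congr fun i hi => by
    rw [tabAt_code h hi, tabAt_code g (ix_lt _), pt_ix]
    rfl

theorem code_one : code (1 : Equiv.Perm GolayPt) = idT := enc_congr fun i hi => ix_pt hi

theorem code_eq_idT {g : Equiv.Perm GolayPt} : code g = idT ↔ g = 1 :=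
  ⟨fun h => code_injective (h.trans code_one.symm), fun h => h ▸ code_one⟩

/-- `n` conjugators with different conjugates: a centraliser times `n` is at most the group. -/
theorem card_le_mul {G : Type*} [Group G] [Finite G] {S : Subgroup G} {a : G} {n : ℕ} (k : Fin n → G)
    (hk : ∀ i, k i ∈ S) (hinj : Function.Injective fun i => k i * a * (k i)⁻¹) :
    n * Nat.card ↥(S ⊓ Subgroup.centralizer {a}) ≤ Nat.card ↥S := by
  let F : Fin n × ↥(S ⊓ Subgroup.centralizer {a}) → ↥S := fun p => ⟨k p.1 * p.2, mul_mem (hk _) p.2.2.1⟩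
  have hF : Function.Injective F := by
    rintro ⟨i, c, hc⟩ ⟨j, d, hd⟩ h
    have h' : k i * c = k j * d := congrArg Subtype.val h
    have e1 : c * a * c⁻¹ = a := by
      rw [Subgroup.mem_centralizer_singleton_iff.1 hc.2, mul_inv_cancel_right]
    have e2 : d * a * d⁻¹ = a := by
      rw [Subgroup.mem_centralizer_singleton_iff.1 hd.2, mul_inv_cancel_right]
    have hij : i = j := hinj <| by
      show k i * a * (k i)⁻¹ = k j * a * (k j)⁻¹
      calc k i * a * (k i)⁻¹ = (k i * c) * a * (k i * c)⁻¹ := by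
            rw [show (k i * c) * a * (k i * c)⁻¹ = k i * (c * a * c⁻¹) * (k i)⁻¹ by group, e1]
        _ = k j * a * (k j)⁻¹ := by
            rw [h', show (k j * d) * a * (k j * d)⁻¹ = k j * (d * a * d⁻¹) * (k j)⁻¹ by group, e2]
    subst hij
    have := mul_left_cancel h'
    subst this
    rfl
  calc n * Nat.card ↥(S ⊓ Subgroup.centralizer {a})
      = Nat.card (Fin n × ↥(S ⊓ Subgroup.centralizer {a})) := by rw [Nat.card_prod, Nat.card_fin]
    _ ≤ Nat.card ↥S := Nat.card_le_card_of_injective F hF

end Cfsg.Agent.M24Recog
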