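import Cfsg.Agent.Lib.M24Recog.Elements
import Cfsg.Agent.Lib.Golay.OctadStab

/-!
# The centraliser of the two involutions in the octad stabiliser, in coordinates

* `tel n`, `n < 1536`: a group of order `64` times a complement of order `24`; `tel_mul`.
* `card_P1`, `exists_tel`: `P1` has order `322560` and the centraliser of `z0, x0` is this group.
-/

set_option autoImplicit false
set_option maxRecDepth 100000

namespace Cfsg.Agent.M24Recog

open Cfsg Cfsg.Agent.Golay.Basic Cfsg.Agent.Golay.M24 Subgroup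
open scoped Pointwise

/-- All indices below `n`. -/
def allB (f : ℕ → Bool) : ℕ → Bool
  | 0 => true
  | n + 1 => f n && allB f n

theorem allB_spec {f : ℕ → Bool} : ∀ {n : ℕ}, allB f n = true → ∀ i < n, f i = true
  | 0, _, i, hi => absurd hi (by omega)
  | n + 1, h, i, hi => by
    simp only [allB, Bool.and_eq_true] at h
    rcases Nat.lt_succ_iff_lt_or_eq.1 hi with e | rfl
    · exact allB_spec h.2 i e
    · exact h.1

/-- The word of an element of the group of order 64. -/
def wword (v : ℕ) : List ℕ :=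
  ((List.range 6).map fun k => bif v.testBit k then Data.eWords.getD k [] else []).flatten

/-- An element of the group of order 64. -/
def wel (v : ℕ) : ↥P1 := pe (wword v)

/-- An element of the complement of order 24. -/
def sel (j : ℕ) : ↥P1 := pe (Data.sWords.getD j [])

/-- An element in coordinates. -/
def tel (n : ℕ) : ↥P1 := wel (n % 64) * sel (n / 64)

/-- The action of the complement. -/
def ac (j v : ℕ) : ℕ := (Data.acTab.getD j 0 >>> (6 * v)) % 64

/-- The multiplication of the complement. -/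
def mt (j k : ℕ) : ℕ := (Data.mtTab.getD j 0 >>> (5 * k)) % 32

/-- The multiplication in coordinates. -/
def tmul (a b : ℕ) : ℕ := (a % 64 ^^^ ac (a / 64) (b % 64)) + 64 * mt (a / 64) (b / 64)

/-- Tables. -/
def wT (v : ℕ) : ℕ := Data.wTab.getD v 0

/-- Tables. -/
def sT' (j : ℕ) : ℕ := Data.sTab.getD j 0

theorem wT_check : allB (fun v => Nat.beq (evalT (wword v)) (wT v)) 64 = true := by decide +kernel

theorem sT_check : allB (fun j => Nat.beq (evalT (Data.sWords.getD j [])) (sT' j)) 24 = true := by decide +kernel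

theorem pcode_wel {v : ℕ} (hv : v < 64) : pcode (wel v) = wT v :=
  (pcode_pe _).trans (Nat.eq_of_beq_eq_true (allB_spec wT_check v hv))

theorem pcode_sel {j : ℕ} (hj : j < 24) : pcode (sel j) = sT' j :=
  (pcode_pe _).trans (Nat.eq_of_beq_eq_true (allB_spec sT_check j hj))

theorem wel_check : allB (fun v => allB (fun u => Nat.beq (mulT (wT v) (wT u)) (wT (v ^^^ u)) &&
    (Nat.beq v u || !Nat.beq (wT v) (wT u))) 64) 64 = true := by decide +kernel

theorem ac_check : allB (fun j => allB (fun v => Nat.blt (ac j v) 64 &&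
    Nat.beq (mulT (sT' j) (wT v)) (mulT (wT (ac j v)) (sT' j))) 64) 24 = true := by decide +kernel

theorem mt_check : allB (fun j => allB (fun k => Nat.blt (mt j k) 24 &&
    Nat.beq (mulT (sT' j) (sT' k)) (sT' (mt j k)) &&
    (Nat.beq j k || !allB (fun i => Nat.beq (ac j (2 ^ i)) (ac k (2 ^ i))) 6)) 24) 24 = true := by decide +kernel

theorem wel_mul {v u : ℕ} (hv : v < 64) (hu : u < 64) : wel v * wel u = wel (v ^^^ u) := by
  have h := allB_spec (allB_spec wel_check v hv) u hu
  simp only [Bool.and_eq_true] at h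
  refine pcode_injective ?_
  rw [pcode_mul, pcode_wel hv, pcode_wel hu, pcode_wel (Nat.xor_lt_two_pow (n := 6) hv hu)]
  exact Nat.eq_of_beq_eq_true h.1

theorem wel_inj {v u : ℕ} (hv : v < 64) (hu : u < 64) (e : wel v = wel u) : v = u := by
  have h := allB_spec (allB_spec wel_check v hv) u hu
  have e' : wT v = wT u := by rw [← pcode_wel hv, ← pcode_wel hu, e]
  simp only [Bool.and_eq_true, e', Nat.beq_refl, Bool.not_true, Bool.or_false] at h
  exact Nat.eq_of_beq_eq_true h.2

theorem ac_lt {j v : ℕ} (hj : j < 24) (hv : v < 64) : ac j v < 64 := by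
  have h := allB_spec (allB_spec ac_check j hj) v hv
  simp only [Bool.and_eq_true] at h
  simpa [Nat.blt] using h.1

theorem sel_wel {j v : ℕ} (hj : j < 24) (hv : v < 64) : sel j * wel v = wel (ac j v) * sel j := by
  have h := allB_spec (allB_spec ac_check j hj) v hv
  simp only [Bool.and_eq_true] at h
  refine pcode_injective ?_
  rw [pcode_mul, pcode_mul, pcode_sel hj, pcode_wel hv, pcode_wel (ac_lt hj hv)]
  exact Nat.eq_of_beq_eq_true h.2

theorem mt_lt {j k : ℕ} (hj : j < 24) (hk : k < 24) : mt j k < 24 := by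
  have h := allB_spec (allB_spec mt_check j hj) k hk
  simp only [Bool.and_eq_true] at h
  simpa [Nat.blt] using h.1.1

theorem sel_mul {j k : ℕ} (hj : j < 24) (hk : k < 24) : sel j * sel k = sel (mt j k) := by
  have h := allB_spec (allB_spec mt_check j hj) k hk
  simp only [Bool.and_eq_true] at h
  refine pcode_injective ?_
  rw [pcode_mul, pcode_sel hj, pcode_sel hk, pcode_sel (mt_lt hj hk)]
  exact Nat.eq_of_beq_eq_true h.1.2

theorem tel_w {v : ℕ} (hv : v < 64) : tel v = wel v := by
  rw [tel, Nat.mod_eq_of_lt hv, Nat.div_eq_of_lt hv]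
  exact mul_eq_left.2 (pcode_injective (by rw [pcode_sel (by norm_num), pcode_one]; decide +kernel))

theorem tmul_lt {a b : ℕ} (ha : a < 1536) (hb : b < 1536) : tmul a b < 1536 := by
  have h1 := mt_lt (j := a / 64) (k := b / 64) (by omega) (by omega)
  have h2 := Nat.xor_lt_two_pow (n := 6) (Nat.mod_lt a (by norm_num : 64 > 0))
    (ac_lt (j := a / 64) (v := b % 64) (by omega) (Nat.mod_lt _ (by norm_num)))
  rw [tmul]
  norm_num at h2
  omega

theorem tel_mul {a b : ℕ} (ha : a < 1536) (hb : b < 1536) : tel a * tel b = tel (tmul a b) := by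
  have hj : a / 64 < 24 := by omega
  have hk : b / 64 < 24 := by omega
  have hv : a % 64 < 64 := Nat.mod_lt _ (by norm_num)
  have hu : b % 64 < 64 := Nat.mod_lt _ (by norm_num)
  have hx := Nat.xor_lt_two_pow (n := 6) hv (ac_lt hj hu)
  norm_num at hx
  rw [tel, tel, tel, tmul, Nat.add_mul_mod_self_left, Nat.mod_eq_of_lt hx,
    Nat.add_mul_div_left _ _ (by norm_num : 0 < 64), Nat.div_eq_of_lt hx, Nat.zero_add, ← wel_mul hv (ac_lt hj hu),
    ← sel_mul hj hk, mul_assoc, ← mul_assoc (sel _), sel_wel hj hu]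
  simp only [mul_assoc]

theorem tel_inj {a b : ℕ} (ha : a < 1536) (hb : b < 1536) (e : tel a = tel b) : a = b := by
  have hj : a / 64 < 24 := by omega
  have hk : b / 64 < 24 := by omega
  have hv : a % 64 < 64 := Nat.mod_lt _ (by norm_num)
  have hu : b % 64 < 64 := Nat.mod_lt _ (by norm_num)
  have hjk : a / 64 = b / 64 := by
    by_contra hne
    have h := allB_spec (allB_spec mt_check _ hj) _ hk
    simp only [Bool.and_eq_true, Bool.or_eq_true, Bool.not_eq_true'] at h
    rcases h.2 with h | h
    · exact hne (Nat.eq_of_beq_eq_true h)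
    · refine Bool.false_ne_true (h.symm.trans ?_)
      have key : ∀ i < 6, ac (a / 64) (2 ^ i) = ac (b / 64) (2 ^ i) := by
        intro i hi
        have hp : 2 ^ i < 64 := Nat.pow_lt_pow_right (by norm_num) hi |>.trans_eq (by norm_num)
        refine wel_inj (ac_lt hj hp) (ac_lt hk hp) ?_
        have hc : ∀ {j v x : ℕ}, j < 24 → v < 64 → x < 64 →
            wel v * sel j * wel x * (wel v * sel j)⁻¹ = wel (ac j x) := by
          intro j v x hj hv hx
          rw [mul_assoc (wel v), sel_wel hj hx, ← mul_assoc, wel_mul hv (ac_lt hj hx), Nat.xor_comm,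
            ← wel_mul (ac_lt hj hx) hv]
          group
        rw [← hc hj hv hp, ← hc hk hu hp, show wel (a % 64) * sel (a / 64) = wel (b % 64) * sel (b / 64) from e]
      simp only [allB, key, Nat.beq_refl, Bool.and_self,
        show (0 : ℕ) < 6 by norm_num, show (1 : ℕ) < 6 by norm_num, show (2 : ℕ) < 6 by norm_num,
        show (3 : ℕ) < 6 by norm_num, show (4 : ℕ) < 6 by norm_num, show (5 : ℕ) < 6 by norm_num]
  have : wel (a % 64) = wel (b % 64) := mul_right_cancel (b := sel (b / 64)) (by rw [← hjk]; nth_rw 2 [hjk]; exact e)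
  have := wel_inj hv hu this
  omega

/-- The central involution. -/
def z0 : ↥P1 := tel 1

/-- The second involution. -/
def x0 : ↥P1 := tel 2

theorem orbZ_check : (Data.orbZ.map fun w => mulT (mulT (evalT w) (wT 1)) (evalT w.reverse)).Nodup ∧
    Data.orbZ.length = 15 := by decide +kernel

theorem orbX_check : (Data.orbX.map fun w => mulT (mulT (evalT w) (wT 2)) (evalT w.reverse)).Nodup ∧
    Data.orbX.length = 14 ∧ (Data.orbX.all fun w => Nat.beq (mulT (evalT w) (wT 1)) (mulT (wT 1) (evalT w))) = true := by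
  decide +kernel

theorem pe_append : ∀ v w : List ℕ, pe (v ++ w) = pe v * pe w
  | [], w => (one_mul _).symm
  | k :: v, w => by rw [List.cons_append, pe, pe, pe_append v w, mul_assoc]

theorem pe_inv : ∀ w : List ℕ, (pe w)⁻¹ = pe w.reverse
  | [] => inv_one
  | k :: w => by
    rw [List.reverse_cons, pe_append, pe, pe, pe, mul_one, mul_inv_rev, pe_inv w,
      inv_eq_of_mul_eq_one_right (gp_sq k)]

theorem pcode_z0 : pcode z0 = wT 1 := by rw [z0, tel_w (by norm_num), pcode_wel (by norm_num)]

theorem pcode_x0 : pcode x0 = wT 2 := by rw [x0, tel_w (by norm_num), pcode_wel (by norm_num)]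

theorem pfix_z0 : pfix z0 = 8 := by rw [pfix, pcode_z0]; decide +kernel

/-- The centraliser of both. -/
def TT : Subgroup ↥P1 := centralizer {z0} ⊓ centralizer {x0}

theorem tcomm_check : allB (fun n => Nat.beq (tmul 1 n) (tmul n 1) && Nat.beq (tmul 2 n) (tmul n 2)) 1536 = true := by
  decide +kernel

theorem tel_mem {n : ℕ} (hn : n < 1536) : tel n ∈ TT := by
  have h := allB_spec tcomm_check n hn
  simp only [Bool.and_eq_true] at h
  refine ⟨mem_centralizer_singleton_iff.2 ?_, mem_centralizer_singleton_iff.2 ?_⟩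
  · rw [z0, tel_mul hn (by norm_num), tel_mul (by norm_num) hn, Nat.eq_of_beq_eq_true h.1]
  · rw [x0, tel_mul hn (by norm_num), tel_mul (by norm_num) hn, Nat.eq_of_beq_eq_true h.2]

theorem card_TT_ge : 1536 ≤ Nat.card ↥TT := by
  calc 1536 = Nat.card (Fin 1536) := (Nat.card_fin _).symm
    _ ≤ _ := Nat.card_le_card_of_injective (fun n : Fin 1536 => (⟨tel n, tel_mem n.2⟩ : ↥TT))
      fun a b h => Fin.ext (tel_inj a.2 b.2 (congrArg Subtype.val h))

theorem chain_card : 15 * Nat.card ↥(centralizer ({z0} : Set ↥P1)) ≤ Nat.card ↥P1 ∧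
    14 * Nat.card ↥TT ≤ Nat.card ↥(centralizer ({z0} : Set ↥P1)) := by
  constructor
  · have hlen := orbZ_check.2
    have h := card_le_mul (S := (⊤ : Subgroup ↥P1)) (a := z0)
      (fun i : Fin 15 => pe (Data.orbZ.getD i.1 [])) (fun _ => mem_top _) fun i j e => Fin.ext <| by
      have e' := congrArg pcode e
      simp only [pe_inv, pcode_mul, pcode_pe, pcode_z0] at e'
      have hi : i.1 < Data.orbZ.length := by rw [hlen]; exact i.2
      have hj : j.1 < Data.orbZ.length := by rw [hlen]; exact j.2
      rw [List.getD_eq_getElem _ _ hi, List.getD_eq_getElem _ _ hj] at e'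
      exact (List.Nodup.getElem_inj_iff orbZ_check.1 (hi := by simpa using hi) (hj := by simpa using hj)).1
        (by simpa only [List.getElem_map] using e')
    rwa [top_inf_eq, Subgroup.card_top] at h
  · have hlen := orbX_check.2.1
    refine card_le_mul (S := centralizer ({z0} : Set ↥P1)) (a := x0)
      (fun i : Fin 14 => pe (Data.orbX.getD i.1 [])) (fun i => mem_centralizer_singleton_iff.2 ?_) fun i j e => Fin.ext <| by
      have e' := congrArg pcode e
      simp only [pe_inv, pcode_mul, pcode_pe, pcode_x0] at e'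
      have hi : i.1 < Data.orbX.length := by rw [hlen]; exact i.2
      have hj : j.1 < Data.orbX.length := by rw [hlen]; exact j.2
      rw [List.getD_eq_getElem _ _ hi, List.getD_eq_getElem _ _ hj] at e'
      exact (List.Nodup.getElem_inj_iff orbX_check.1 (hi := by simpa using hi) (hj := by simpa using hj)).1
        (by simpa only [List.getElem_map] using e')
    have hi : i.1 < Data.orbX.length := by rw [hlen]; exact i.2
    rw [List.getD_eq_getElem _ _ hi]
    refine pcode_injective ?_
    rw [pcode_mul, pcode_mul, pcode_pe, pcode_z0]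
    exact Nat.eq_of_beq_eq_true (List.all_eq_true.1 orbX_check.2.2 _ (List.getElem_mem hi))

/-- The octad. -/
def oct0 : Finset GolayPt := maskSet Data.octMask

theorem oct0_mem : oct0 ∈ octads := maskSet_mem_octads (by decide +kernel)

theorem gens_fix_oct : g0.1 • oct0 = oct0 ∧ g1.1 • oct0 = oct0 ∧ g2.1 • oct0 = oct0 := by decide +kernel

theorem P1_le : P1 ≤ MulAction.stabilizer ↥M24 oct0 := by
  refine (closure_le _).2 ?_
  rintro _ (rfl | rfl | rfl)
  exacts [gens_fix_oct.1, gens_fix_oct.2.1, gens_fix_oct.2.2]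

theorem card_stab : Nat.card ↥(MulAction.stabilizer ↥M24 oct0) = 322560 := by
  rw [← Cfsg.Agent.Golay.OctadStab.card_OK oct0_mem]
  refine Nat.card_congr ?_
  exact
    { toFun := fun g => ⟨(g : ↥M24), ⟨(g : ↥M24).2, g.2⟩⟩
      invFun := fun g => ⟨⟨g.1, g.2.1⟩, g.2.2⟩
      left_inv := fun _ => rfl
      right_inv := fun _ => rfl }

theorem card_P1 : Nat.card ↥P1 = 322560 := by
  have h1 := Subgroup.card_le_of_le (P1_le)
  have ⟨h2, h3⟩ := chain_card
  have h4 := card_TT_ge
  rw [card_stab] at h1
  omega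

theorem P1_eq : P1 = MulAction.stabilizer ↥M24 oct0 :=
  Subgroup.eq_of_le_of_card_ge P1_le (by rw [card_stab, card_P1])

theorem exists_tel {p : ↥P1} (h : p * z0 = z0 * p) (h' : p * x0 = x0 * p) : ∃ n < 1536, p = tel n := by
  have hcard : Nat.card ↥TT ≤ 1536 := by
    have ⟨h2, h3⟩ := chain_card
    rw [card_P1] at h2
    omega
  let f : Fin 1536 → ↥TT := fun n => ⟨tel n, tel_mem n.2⟩
  have hinj : Function.Injective f := fun a b e => Fin.ext (tel_inj a.2 b.2 (congrArg Subtype.val e))
  have hsur : Function.Surjective f :=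
    ((Nat.bijective_iff_injective_and_card f).2 ⟨hinj, by
      rw [Nat.card_fin]; exact le_antisymm card_TT_ge hcard⟩).2
  obtain ⟨n, hn⟩ := hsur ⟨p, mem_centralizer_singleton_iff.2 h, mem_centralizer_singleton_iff.2 h'⟩
  exact ⟨n, n.2, (congrArg Subtype.val hn).symm⟩

end Cfsg.Agent.M24Recog
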