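import Cfsg.Agent.Lib.M24Recog.Code
import Cfsg.Agent.Lib.M24Recog.Data

/-!
# The octad stabiliser by three generators, and the swap

* `P1`: generated by `g0, g1, g2` inside `M24`; `pe` evaluates words.
* `s0`: the swap.
-/

set_option autoImplicit false

namespace Cfsg.Agent.M24Recog

open Cfsg Cfsg.Agent.Golay.Basic Cfsg.Agent.Golay.M24

/-- The function of a table. -/
def tfun (T : ℕ) (p : GolayPt) : GolayPt := pt (tabAt T (ix p))

theorem invol_g0 : ∀ p, tfun Data.g0T (tfun Data.g0T p) = p := by decide +kernel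

theorem invol_g1 : ∀ p, tfun Data.g1T (tfun Data.g1T p) = p := by decide +kernel

theorem invol_g2 : ∀ p, tfun Data.g2T (tfun Data.g2T p) = p := by decide +kernel

theorem invol_s : ∀ p, tfun Data.sT (tfun Data.sT p) = p := by decide +kernel

/-- An involution from its table. -/
def pT (T : ℕ) (h : ∀ p, tfun T (tfun T p) = p) : Equiv.Perm GolayPt := ⟨tfun T, tfun T, h, h⟩

/-- The first generator. -/
def g0 : ↥M24 := ⟨pT Data.g0T invol_g0,
  mem_M24_of_basis fun b hb => mem_supports_iff.2 (by revert b; decide +kernel)⟩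

/-- The second generator. -/
def g1 : ↥M24 := ⟨pT Data.g1T invol_g1,
  mem_M24_of_basis fun b hb => mem_supports_iff.2 (by revert b; decide +kernel)⟩

/-- The third generator. -/
def g2 : ↥M24 := ⟨pT Data.g2T invol_g2,
  mem_M24_of_basis fun b hb => mem_supports_iff.2 (by revert b; decide +kernel)⟩

/-- The swap. -/
def s0 : ↥M24 := ⟨pT Data.sT invol_s,
  mem_M24_of_basis fun b hb => mem_supports_iff.2 (by revert b; decide +kernel)⟩

/-- The table of an element of `M24`. -/
def mcode (g : ↥M24) : ℕ := code (g : Equiv.Perm GolayPt)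

theorem mcode_injective : Function.Injective mcode := fun _ _ h => Subtype.ext (code_injective h)

theorem mcode_mul (g h : ↥M24) : mcode (g * h) = mulT (mcode g) (mcode h) := code_mul _ _

theorem mcode_one : mcode 1 = idT := code_one

theorem mcode_g0 : mcode g0 = Data.g0T := by decide +kernel

theorem mcode_g1 : mcode g1 = Data.g1T := by decide +kernel

theorem mcode_g2 : mcode g2 = Data.g2T := by decide +kernel

theorem mcode_s0 : mcode s0 = Data.sT := by decide +kernel

theorem g0_sq : g0 * g0 = 1 := Subtype.ext (Equiv.ext invol_g0)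

theorem g1_sq : g1 * g1 = 1 := Subtype.ext (Equiv.ext invol_g1)

theorem g2_sq : g2 * g2 = 1 := Subtype.ext (Equiv.ext invol_g2)

theorem s0_sq : s0 * s0 = 1 := Subtype.ext (Equiv.ext invol_s)

/-- The octad stabiliser. -/
def P1 : Subgroup ↥M24 := Subgroup.closure {g0, g1, g2}

/-- The generators in it. -/
def gp : ℕ → ↥P1
  | 0 => ⟨g0, Subgroup.subset_closure (by simp)⟩
  | 1 => ⟨g1, Subgroup.subset_closure (by simp)⟩
  | 2 => ⟨g2, Subgroup.subset_closure (by simp)⟩
  | _ => 1

theorem gp_sq : ∀ k, gp k * gp k = 1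
  | 0 => Subtype.ext g0_sq
  | 1 => Subtype.ext g1_sq
  | 2 => Subtype.ext g2_sq
  | _ + 3 => one_mul 1

/-- The value of a word. -/
def pe : List ℕ → ↥P1
  | [] => 1
  | k :: w => gp k * pe w

/-- The table of an element. -/
def pcode (p : ↥P1) : ℕ := mcode (p : ↥M24)

theorem pcode_injective : Function.Injective pcode := fun _ _ h => Subtype.ext (mcode_injective h)

theorem pcode_mul (p q : ↥P1) : pcode (p * q) = mulT (pcode p) (pcode q) := mcode_mul _ _

theorem pcode_one : pcode 1 = idT := mcode_one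

/-- The tables of the generators. -/
def gT : ℕ → ℕ
  | 0 => Data.g0T
  | 1 => Data.g1T
  | 2 => Data.g2T
  | _ => idT

theorem pcode_gp : ∀ k, pcode (gp k) = gT k
  | 0 => mcode_g0
  | 1 => mcode_g1
  | 2 => mcode_g2
  | _ + 3 => mcode_one

/-- The image of an index under a word. -/
def runT : List ℕ → ℕ → ℕ
  | [], i => i
  | k :: w, i => tabAt (gT k) (runT w i)

/-- The table of a word. -/
def evalT (w : List ℕ) : ℕ := enc (runT w)

theorem ix_gp (k : ℕ) (p : GolayPt) :
    ix (((gp k : ↥P1) : ↥M24).1 p) = tabAt (gT k) (ix p) := by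
  rw [← pcode_gp]
  unfold pcode mcode
  rw [tabAt_code _ (ix_lt p), pt_ix]

theorem pe_apply (k : ℕ) (w : List ℕ) (p : GolayPt) :
    ((pe (k :: w) : ↥P1) : ↥M24).1 p = ((gp k : ↥P1) : ↥M24).1 (((pe w : ↥P1) : ↥M24).1 p) := by
  rw [pe, Subgroup.coe_mul, Subgroup.coe_mul, Equiv.Perm.coe_mul, Function.comp_apply]

theorem runT_nil (i : ℕ) : runT [] i = i := rfl

theorem runT_cons (k : ℕ) (w : List ℕ) (i : ℕ) : runT (k :: w) i = tabAt (gT k) (runT w i) := rfl

theorem pe_nil_apply (p : GolayPt) : ((pe [] : ↥P1) : ↥M24).1 p = p := rfl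

theorem ix_pe (w : List ℕ) : ∀ p : GolayPt, ix (((pe w : ↥P1) : ↥M24).1 p) = runT w (ix p) := by
  induction w with
  | nil => intro p; exact (congrArg ix (pe_nil_apply p)).trans (runT_nil _).symm
  | cons k w ih =>
    intro p
    exact ((congrArg ix (pe_apply k w p)).trans (ix_gp k _)).trans
      ((congrArg (tabAt (gT k)) (ih p)).trans (runT_cons k w _).symm)

theorem pcode_pe (w : List ℕ) : pcode (pe w) = evalT w :=
  enc_congr (f := fun i => ix (((pe w : ↥P1) : ↥M24).1 (pt i))) (g := runT w) fun i hi =>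
    (ix_pe w (pt i)).trans (congrArg (runT w) (ix_pt hi))

theorem pe_eq {v w : List ℕ} (h : evalT v = evalT w) : pe v = pe w :=
  pcode_injective (by rw [pcode_pe, pcode_pe, h])

/-- The number of fixed points. -/
def pfix (p : ↥P1) : ℕ := nfixT (pcode p)

end Cfsg.Agent.M24Recog
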