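import Mathlib.Data.Nat.Notation

/-!
# The relators, with the witnesses that each of them centralises a small group

A relator is a list of words in the three generators, to be separated by the swap; the first number tells the group.
-/

set_option autoImplicit false

namespace Cfsg.Agent.M24Recog.RelData

/-- The relators. -/
def rels : List (ℕ × List (List ℕ) × List (List (List ℕ))) :=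
  [(0, [[0, 1, 0, 1, 0, 1, 0, 1, 0, 1]], []),
  (1, [[0, 2, 1, 0, 2, 0, 1, 2, 0, 1, 0, 2, 0, 1], [1, 0, 2, 0, 1, 0, 2, 1, 0, 2, 0, 1, 2, 0], []], [[[0], [1]], [[1], [0]], [[2], [4]], [[0, 2, 3], [5]], [[4], [2]], [[1, 4, 5], [3]], [[8, 6, 8], [6]], [[7, 7], [7]], [[8], [8]]]),
  (1, [[0, 1, 2, 1, 2, 1, 2, 1, 2, 1, 2, 1, 2, 0], [0, 2, 0, 1, 0, 1, 2, 0, 2, 0, 1, 0, 1, 0, 2, 0], []], [[[0], [1]], [[1], [0]], [[2], [4]], [[3], [5]], [[4], [2]], [[5], [3]], [[2, 6], [6]], [[0, 2, 7], [7]], [[0, 2, 8], [8]]]),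
  (1, [[0, 1, 0, 2, 1, 0, 1, 2, 1, 0, 1, 2, 0, 1, 0, 1], [1, 0, 2, 0, 1, 0, 2, 0, 1, 0, 2, 0, 1, 0, 2, 0], []], [[[0], [1]], [[1], [0]], [[2], [4]], [[3], [5]], [[4], [2]], [[5], [3]], [[1, 5, 6], [6]], [[1, 5, 7], [7]], [[8], [8]]]),
  (1, [[0, 2, 0, 1, 0, 2, 0, 1, 0, 2, 0, 1, 0, 2, 0, 1], [1, 0, 1, 0, 2, 1, 0, 1, 2, 1, 0, 1, 2, 0, 1, 0], []], [[[0], [1]], [[1], [0]], [[2], [4]], [[3], [5]], [[4], [2]], [[5], [3]], [[0, 3, 6], [6]], [[0, 3, 7], [7]], [[8], [8]]]),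
  (1, [[0, 2, 0, 2, 1, 0, 2, 0, 1, 2, 1, 2, 1, 2, 1, 0, 2], [2, 0, 1, 2, 1, 2, 1, 2, 1, 0, 2, 0, 1, 2, 0, 2, 0], []], [[[2], [1]], [[4], [0]], [[0, 3], [4]], [[0], [5]], [[1, 5], [2]], [[1], [3]], [[6], [6]], [[6, 7], [7]], [[6, 8, 6, 8, 7, 6, 6], [8]]]),
  (1, [[], [1, 2, 1, 2, 1, 0, 1, 2, 1, 2, 1, 0, 1, 2, 1, 2, 1, 0], [1, 2, 1, 2, 1, 0, 1, 2, 1, 2, 1, 0, 1, 2, 1, 2, 1, 0], [1, 2, 1, 2, 1, 0, 1, 2, 1, 2, 1, 0, 1, 2, 1, 2, 1, 0]], [[[0], [0, 1], [1]], [[1], [0], [0, 1]], [[2], [2, 4], [4]], [[3], [3, 5], [5]], [[4], [2], [2, 4]], [[5], [3], [3, 5]], [[6], [6], [6]], [[7], [7], [7]], [[8], [8], [8]]]),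
  (2, [[2, 1, 2, 0, 2, 1, 0, 1, 0, 2, 0, 1, 2, 0, 2, 1, 1, 2, 1, 0, 1, 2, 0, 1, 0, 1], [2, 0, 2, 1, 2, 1, 0, 1, 2, 0, 1, 0, 1], [2, 0, 2, 1, 2, 1, 0, 1, 2, 0, 1, 0, 1], [1, 2, 1, 0, 1, 2, 0, 1, 0, 1], []], [[[0, 2], [1, 2, 6, 7, 7, 6, 8, 6, 6], [1, 8], [1]], [[0, 1, 4, 8], [6, 8, 5, 6, 7, 6, 7], [1, 4], [0]], [[4, 6, 8, 3, 6, 7, 6, 7], [4, 6, 7, 7, 6, 8, 6, 6], [4], [2]], [[0, 6, 8, 6, 7, 6, 7], [1, 2, 6, 8, 6, 7, 6, 7], [2, 8], [1, 6, 8, 6, 7, 6, 7]], [[2, 8], [0, 2, 4, 8], [6, 7, 3, 7, 6, 8, 6, 6], [6, 7, 5, 7, 6, 8, 6, 6]], [[4], [0, 2], [1, 2, 6, 7, 7, 6, 8, 6, 6], [2, 6, 8, 5, 6, 7, 6, 7]], [[2, 6, 7, 6, 6], [2, 6, 7, 6, 6], [2, 6, 7, 6, 6], [0, 6, 7, 7]]]),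
  (2, [[0, 2, 1, 0, 2, 0, 1, 2, 0, 2, 1, 2, 1, 2, 1, 2, 1, 0, 1, 2, 0, 1, 0, 1], [2, 0, 2, 1, 2, 1, 0, 1, 2, 0, 1, 0, 1], [2, 0, 2, 1, 2, 1, 0, 1, 2, 0, 1, 0, 1], [2, 0, 2, 1, 2, 1, 0, 1, 2, 0, 1, 0, 1], []], [[[0, 2], [1, 2, 6, 7, 7, 6, 8, 6, 6], [1, 8], [1]], [[0, 1, 4, 8], [6, 8, 5, 6, 7, 6, 7], [1, 4], [0]], [[1, 2, 6, 7, 7, 6, 8, 6, 6], [1, 8], [1], [2]], [[0, 1], [0, 4, 6, 8, 6, 7, 6, 7], [0, 1, 6, 8, 6, 7, 6, 7], [1, 6, 8, 6, 7, 6, 7]], [[0, 1, 2, 4], [1, 6, 7, 3, 7, 6, 8, 6, 6], [6, 7, 3, 5, 7, 6, 8, 6, 6], [6, 7, 5, 7, 6, 8, 6, 6]], [[2, 6, 7, 7, 6, 8, 6, 6], [1, 2, 8], [0, 4, 8], [2, 6, 8, 5, 6, 7, 6, 7]], [[0, 6, 7, 7], [0, 6, 7, 7], [0, 6, 7, 7], [0, 6, 7,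 7]]]),
  (2, [[2, 0, 1, 0, 1, 2, 0, 1, 0, 2, 0, 1, 2, 0, 1, 2, 0, 2, 1, 2, 1, 0, 1, 2, 0, 1, 0, 1], [2, 0, 2, 1, 0, 2, 1, 2, 0, 1, 1, 2, 1, 0, 1, 2, 0, 1, 0, 1], [2, 0, 2, 1, 0, 2, 1, 2, 0, 1, 1, 2, 1, 0, 1, 2, 0, 1, 0, 1], []], [[[0], [2, 4], [1]], [[0, 1], [4], [0]], [[2, 4], [1], [2]], [[0, 4, 6, 8, 6, 7, 6, 7], [6, 7, 3, 5, 7, 6, 8, 6, 6], [1, 6, 8, 6, 7, 6, 7]], [[1, 6, 7, 3, 7, 6, 8, 6, 6], [0, 1, 6, 8, 6, 7, 6, 7], [6, 7, 5, 7, 6, 8, 6, 6]], [[0, 6, 8, 6, 7, 6, 7], [2, 6, 7, 5, 7, 6, 8, 6, 6], [2, 6, 8, 5, 6, 7, 6, 7]], [[0, 6, 7, 7], [2, 6, 7, 6, 6], [0, 6, 7, 7]]]),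
  (2, [[1, 0, 2, 0, 2, 1, 2, 1, 2, 1, 2, 0, 1, 2, 1, 2, 1, 2, 1, 0, 1, 2, 0, 1, 0, 1], [2, 0, 2, 1, 2, 1, 0, 1, 2, 0, 1, 0, 1], [2, 0, 2, 1, 2, 1, 0, 1, 2, 0, 1, 0, 1], [1, 2, 1, 0, 1, 2, 0, 1, 0, 1], [1, 0, 2, 0, 1, 0, 1, 2, 0, 1, 0]], [[[0], [4, 6, 8, 3, 6, 7, 6, 7], [4, 6, 7, 7, 6, 8, 6, 6], [1, 4]], [[2, 6, 7, 7, 6, 8, 6, 6], [1, 2, 8], [0, 4, 8], [1, 8]], [[6, 8, 3, 6, 7, 6, 7], [4, 6, 7, 3, 7, 6, 8, 6, 6], [2, 6, 7, 5, 7, 6, 8, 6, 6], [6, 8, 5, 6, 7, 6, 7]], [[4], [0, 2], [1, 2, 6, 7, 7, 6, 8, 6, 6], [2, 6, 8, 5, 6, 7, 6, 7]], [[1], [2], [0, 1, 4, 8], [0, 1, 2, 8]], [[0, 4, 6, 8, 6, 7, 6, 7], [0, 1, 6, 8, 6, 7, 6, 7], [1, 6, 8, 6, 7, 6, 7], [2, 4]], [[0, 6, 7, 7],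 [0, 6, 7, 7], [0, 6, 7, 7], [2, 6, 7, 6, 6]]]),
  (2, [[0, 1, 0, 2, 0, 1, 0, 1, 0, 2, 0, 1, 1, 2, 1, 0, 1, 2, 0, 1, 0, 1], [1, 2, 1, 0, 1, 2, 0, 1, 0, 1], [1, 2, 1, 0, 1, 2, 0, 1, 0, 1], [1, 0, 2, 0, 1, 0, 1, 2, 0, 1, 0, 1, 2, 1, 0, 1, 2, 0, 1, 0, 1], [1, 2, 1, 0, 1, 2, 0, 1, 0, 1], []], [[[0, 2], [2, 6, 7, 7, 6, 8, 6, 6], [0, 6, 8, 5, 6, 7, 6, 7], [1, 8], [1]], [[1, 2, 4, 8], [0, 1, 6, 8, 6, 7, 6, 7], [0, 2, 4, 8], [1, 4], [0]], [[0, 4, 6, 8, 6, 7, 6, 7], [2, 4, 8], [1, 2, 6, 8, 6, 7, 6, 7], [4], [2]], [[2, 4], [0, 6, 8, 6, 7, 6, 7], [4, 8], [2, 8], [1, 6, 8, 6, 7, 6, 7]], [[0, 1, 2, 4], [6, 7, 3, 7, 6, 8, 6, 6], [6, 7, 5, 7, 6, 8, 6, 6], [6, 7, 3, 7, 6, 8, 6, 6], [6,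 7, 5, 7, 6, 8, 6, 6]], [[0, 6, 8, 6, 7, 6, 7], [4, 8], [0, 1], [1, 2, 6, 7, 7, 6, 8, 6, 6], [2, 6, 8, 5, 6, 7, 6, 7]], [[2, 6, 7, 6, 6], [0, 6, 7, 7], [2, 6, 7, 6, 6], [2, 6, 7, 6, 6], [0, 6, 7, 7]]]),
  (2, [[1, 0, 2, 1, 2, 0, 1, 2, 1, 0, 2, 0, 2, 1, 0, 2, 1, 2, 1, 0, 1, 2, 0, 1, 0, 1], [2, 0, 2, 1, 2, 1, 0, 1, 2, 0, 1, 0, 1], [2, 0, 2, 1, 2, 1, 0, 1, 2, 0, 1, 0, 1], [2, 1, 2, 1, 0, 1, 2, 1, 0, 1, 2, 1, 2, 1, 2, 1, 0, 1, 2, 0, 1, 0, 1], []], [[[0, 2], [1, 2, 6, 7, 7, 6, 8, 6, 6], [1, 8], [1]], [[0, 1, 4, 8], [6, 8, 5, 6, 7, 6, 7], [1, 4], [0]], [[1, 2, 6, 7, 7, 6, 8, 6, 6], [1, 8], [1], [2]], [[2, 6, 7, 7, 6, 8, 6, 6], [1, 2, 8], [0, 4, 8], [1, 6, 8, 6, 7, 6, 7]], [[0,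 8], [0, 6, 8, 5, 6, 7, 6, 7], [1, 6, 8, 3, 6, 7, 6, 7], [6, 7, 5, 7, 6, 8, 6, 6]], [[0, 1], [0, 4, 6, 8, 6, 7, 6, 7], [0, 1, 6, 8, 6, 7, 6, 7], [2, 6, 8, 5, 6, 7, 6, 7]], [[0, 6, 7, 7], [0, 6, 7, 7], [0, 6, 7, 7], [0, 6, 7, 7]]]),
  (2, [[1, 2, 0, 2, 1, 0, 2, 1, 0, 1, 2, 1, 0, 2, 1, 2, 0, 1, 1, 2, 1, 0, 1, 2, 0, 1, 0, 1], [2, 0, 2, 1, 2, 1, 0, 1, 2, 0, 1, 0, 1], [2, 0, 2, 1, 2, 1, 0, 1, 2, 0, 1, 0, 1], [1, 2, 1, 0, 1, 2, 0, 1, 0, 1], [2, 1, 2, 1, 0, 1, 2, 1, 0, 1, 2, 1, 2]], [[[2], [0, 1, 4, 8], [6, 8, 5, 6, 7, 6, 7], [4]], [[0, 4, 6, 8, 6, 7, 6, 7], [0, 1, 6, 8, 6, 7, 6, 7], [1, 6, 8, 6, 7, 6, 7], [2, 4]], [[1, 2, 4, 8], [2, 4, 8], [4, 8], [0, 1]], [[2, 8], [0, 2, 4,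 8], [6, 7, 3, 7, 6, 8, 6, 6], [6, 7, 5, 7, 6, 8, 6, 6]], [[0, 6, 8, 6, 7, 6, 7], [1, 2, 6, 8, 6, 7, 6, 7], [2, 8], [1, 6, 8, 6, 7, 6, 7]], [[0, 1, 2, 4], [1, 6, 7, 3, 7, 6, 8, 6, 6], [6, 7, 3, 5, 7, 6, 8, 6, 6], [0, 6, 7, 5, 7, 6, 8, 6, 6]], [[0, 6, 7, 7], [0, 6, 7, 7], [0, 6, 7, 7], [2, 6, 7, 6, 6]]]),
  (2, [[2, 1, 2, 1, 0, 1, 2, 1, 0, 1, 2, 1, 2, 1, 2, 1, 0, 1, 2, 0, 1, 0, 1], [1, 2, 1, 0, 1, 2, 0, 1, 0, 1], [1, 2, 1, 0, 1, 2, 0, 1, 0, 1], [1, 0, 2, 0, 1, 0, 1, 2, 0, 1, 0, 1, 2, 1, 0, 1, 2, 0, 1, 0, 1], [1, 2, 1, 0, 1, 2, 0, 1, 0, 1], [2, 0, 2]], [[[2], [6, 8, 3, 6, 7, 6, 7], [4, 6, 7, 3, 7, 6, 8, 6, 6], [6, 8, 5, 6, 7, 6, 7], [4]], [[0, 6, 8, 6, 7, 6, 7], [4, 8], [0,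 1], [1, 2, 6, 7, 7, 6, 8, 6, 6], [2, 6, 8, 5, 6, 7, 6, 7]], [[2, 8], [1, 6, 8, 6, 7, 6, 7], [2, 4], [4, 6, 8, 3, 6, 7, 6, 7], [0, 4, 6, 7, 7, 6, 8, 6, 6]], [[0, 1, 2, 4], [6, 7, 3, 7, 6, 8, 6, 6], [6, 7, 5, 7, 6, 8, 6, 6], [6, 7, 3, 7, 6, 8, 6, 6], [6, 7, 5, 7, 6, 8, 6, 6]], [[2, 4], [0, 6, 8, 6, 7, 6, 7], [4, 8], [2, 8], [1, 6, 8, 6, 7, 6, 7]], [[1, 2, 4, 8], [0, 1, 6, 8, 6, 7, 6, 7], [0, 2, 4, 8], [1, 4], [0]], [[0, 6, 7, 7], [2, 6, 7, 6, 6], [0, 6, 7, 7], [0, 6, 7, 7], [2, 6, 7, 6, 6]]]),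
  (2, [[2, 0, 2, 1, 2, 1, 0, 1, 2, 0, 1, 0, 1], [1, 2, 1, 0, 1, 2, 0, 1, 0, 1], [1, 2, 1, 0, 1, 2, 0, 1, 0, 1], [1, 0, 2, 0, 1, 0, 1, 2, 0, 1, 0, 1, 2, 1, 0, 1, 2, 0, 1, 0, 1], [1, 2, 1, 0, 1, 2, 0, 1, 0, 1], [2, 1, 2, 1, 0, 1, 2, 1, 0, 1, 2, 1, 2]], [[[2], [6, 8, 3, 6, 7, 6, 7], [4, 6, 7, 3, 7, 6, 8, 6, 6], [6, 8, 5, 6, 7, 6, 7], [4]], [[4, 6, 8, 3, 6, 7, 6, 7], [0, 4, 6, 7, 7, 6, 8, 6, 6], [0, 1, 4, 8], [1, 6, 8, 6, 7, 6, 7], [2, 4]], [[0, 1, 4, 8], [0, 1, 2, 8], [1, 2, 6, 7, 7, 6, 8, 6, 6], [4, 8], [0, 1]], [[0, 1, 2, 4], [6, 7, 3, 7, 6, 8, 6, 6], [6, 7, 5, 7, 6, 8, 6, 6], [6, 7, 3, 7, 6, 8, 6, 6], [6, 7, 5, 7, 6, 8, 6, 6]], [[2, 4], [0, 6, 8, 6, 7, 6, 7], [4, 8], [2,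 8], [1, 6, 8, 6, 7, 6, 7]], [[0, 8], [1, 2, 8], [1, 6, 8, 3, 6, 7, 6, 7], [6, 7, 3, 5, 7, 6, 8, 6, 6], [0, 6, 7, 5, 7, 6, 8, 6, 6]], [[0, 6, 7, 7], [2, 6, 7, 6, 6], [0, 6, 7, 7], [0, 6, 7, 7], [2, 6, 7, 6, 6]]]),
  (2, [[2, 0, 1, 2, 1, 0, 2, 1, 0, 2, 1, 2, 1, 0, 1, 2, 0, 2, 1, 2, 1, 0, 1, 2, 0, 1, 0, 1], [2, 0, 2, 1, 2, 1, 0, 1, 2, 0, 1, 0, 1], [2, 0, 2, 1, 2, 1, 0, 1, 2, 0, 1, 0, 1], [2, 1, 2, 1, 0, 1, 2, 1, 0, 1, 2, 1, 2, 1, 2, 1, 0, 1, 2, 0, 1, 0, 1], [2, 0, 2]], [[[0], [4, 6, 8, 3, 6, 7, 6, 7], [4, 6, 7, 7, 6, 8, 6, 6], [4]], [[0, 1], [0, 4, 6, 8, 6, 7, 6, 7], [0, 1, 6, 8, 6, 7, 6, 7], [2, 6, 8, 5, 6, 7, 6, 7]], [[0, 1, 2, 4], [1, 6, 7, 3, 7, 6, 8, 6, 6], [6, 7, 3,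 5, 7, 6, 8, 6, 6], [0, 4, 6, 7, 7, 6, 8, 6, 6]], [[0, 8], [0, 6, 8, 5, 6, 7, 6, 7], [1, 6, 8, 3, 6, 7, 6, 7], [6, 7, 5, 7, 6, 8, 6, 6]], [[2, 6, 7, 7, 6, 8, 6, 6], [1, 2, 8], [0, 4, 8], [1, 6, 8, 6, 7, 6, 7]], [[0, 1, 4, 8], [6, 8, 5, 6, 7, 6, 7], [1, 4], [0]], [[2, 6, 7, 6, 6], [2, 6, 7, 6, 6], [2, 6, 7, 6, 6], [2, 6, 7, 6, 6]]]),
  (2, [[0, 1, 0, 2, 1, 0, 1, 0, 2, 0, 1, 1, 2, 1, 0, 1, 2, 0, 1, 0, 1], [1, 2, 1, 0, 1, 2, 0, 1, 0, 1], [1, 2, 1, 0, 1, 2, 0, 1, 0, 1], [1, 0, 2, 0, 1, 0, 1, 2, 0, 1, 0, 1, 2, 1, 0, 1, 2, 0, 1, 0, 1], [1, 2, 1, 0, 1, 2, 0, 1, 0, 1], [0, 1, 2, 0, 2, 1, 0]], [[[0], [0, 8], [1, 2, 8], [4, 6, 7, 7, 6, 8, 6, 6], [1, 4]], [[1], [0, 2], [2, 6, 7, 7,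 6, 8, 6, 6], [0, 4, 8], [1, 8]], [[4], [2], [6, 8, 3, 6, 7, 6, 7], [2, 6, 7, 5, 7, 6, 8, 6, 6], [6, 8, 5, 6, 7, 6, 7]], [[4, 6, 8, 3, 6, 7, 6, 7], [0, 4, 6, 7, 7, 6, 8, 6, 6], [0, 1, 4, 8], [1, 6, 8, 6, 7, 6, 7], [2, 4]], [[1, 2, 6, 7, 7, 6, 8, 6, 6], [2, 6, 8, 5, 6, 7, 6, 7], [4, 6, 8, 3, 6, 7, 6, 7], [6, 7, 5, 7, 6, 8, 6, 6], [0, 1, 2, 4]], [[0, 6, 8, 6, 7, 6, 7], [4, 8], [0, 1], [1, 2, 6, 7, 7, 6, 8, 6, 6], [2, 6, 8, 5, 6, 7, 6, 7]], [[0, 6, 7, 7], [2, 6, 7, 6, 6], [0, 6, 7, 7], [0, 6, 7, 7], [2, 6, 7, 6, 6]]]),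
  (2, [[1, 0, 2, 0, 1, 0, 1, 2, 0, 1, 0, 1, 2, 1, 0, 1, 2, 0, 1, 0, 1], [1, 2, 1, 0, 1, 2, 0, 1, 0, 1], [1, 0, 2, 0, 1, 0, 1, 2, 0, 1, 0, 1, 2, 1, 0, 1, 2, 0, 1, 0, 1], [1, 2, 1, 0, 1, 2, 0, 1, 0, 1], [1, 2, 1, 0, 1, 2, 0, 1, 0, 1], [0, 1, 2, 0, 2, 1, 0]], [[[0], [0, 8], [1, 6, 8, 3, 6, 7, 6, 7], [4, 6, 7, 7, 6, 8, 6, 6], [1, 4]], [[1, 6, 7, 3, 7, 6, 8, 6, 6], [6, 7, 3, 5, 7, 6, 8, 6, 6], [0, 6, 8, 5, 6, 7, 6, 7], [0, 4, 8], [1, 8]], [[0, 4, 6, 8, 6, 7, 6, 7], [2, 4, 8], [4, 6, 7, 3, 7, 6, 8, 6, 6], [2, 6, 7, 5, 7, 6, 8, 6, 6], [6, 8, 5, 6, 7, 6, 7]], [[0, 6, 8, 6, 7, 6, 7], [4, 8], [2, 8], [1, 6, 8, 6, 7, 6, 7], [2, 4]], [[6, 7, 3, 7, 6, 8, 6, 6], [6, 7, 5, 7, 6, 8, 6,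 6], [6, 7, 3, 7, 6, 8, 6, 6], [6, 7, 5, 7, 6, 8, 6, 6], [0, 1, 2, 4]], [[2, 4], [0, 6, 8, 6, 7, 6, 7], [0, 1, 2, 8], [1, 2, 6, 7, 7, 6, 8, 6, 6], [2, 6, 8, 5, 6, 7, 6, 7]], [[0, 6, 7, 7], [2, 6, 7, 6, 6], [2, 6, 7, 6, 6], [0, 6, 7, 7], [2, 6, 7, 6, 6]]]),
  (2, [[2, 0, 2, 1, 2, 0, 2, 1, 0, 2, 1, 0, 1, 2, 1, 2, 1, 0, 1, 2, 0, 1, 0, 1], [2, 0, 2, 1, 2, 1, 0, 1, 2, 0, 1, 0, 1], [2, 1, 2, 1, 0, 1, 2, 1, 0, 1, 2, 1, 2, 1, 2, 1, 0, 1, 2, 0, 1, 0, 1], [1, 0, 2, 0, 1, 0, 1, 2, 0, 1, 0, 1, 2, 1, 0, 1, 2, 0, 1, 0, 1], []], [[[0], [4, 6, 8, 3, 6, 7, 6, 7], [0, 6, 7, 5, 7, 6, 8, 6, 6], [1]], [[1, 2, 6, 7, 7, 6, 8, 6, 6], [1, 8], [1], [0]], [[4, 6, 8, 3, 6, 7, 6, 7], [4, 6, 7, 7, 6,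 8, 6, 6], [4], [2]], [[0, 6, 8, 6, 7, 6, 7], [1, 2, 6, 8, 6, 7, 6, 7], [0, 1, 4, 8], [1, 6, 8, 6, 7, 6, 7]], [[6, 7, 3, 7, 6, 8, 6, 6], [0, 6, 7, 5, 7, 6, 8, 6, 6], [4, 6, 8, 3, 6, 7, 6, 7], [6, 7, 5, 7, 6, 8, 6, 6]], [[4], [0, 2], [6, 7, 3, 7, 6, 8, 6, 6], [2, 6, 8, 5, 6, 7, 6, 7]], [[0, 6, 7, 7], [0, 6, 7, 7], [0, 6, 7, 7], [0, 6, 7, 7]]]),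
  (2, [[2, 1, 0, 2, 0, 2, 1, 0, 2, 1, 0, 2, 1, 2, 0, 1, 1, 2, 1, 0, 1, 2, 0, 1, 0, 1], [1, 2, 1, 0, 1, 2, 0, 1, 0, 1], [1, 0, 2, 0, 1, 0, 1, 2, 0, 1, 0, 1, 2, 1, 0, 1, 2, 0, 1, 0, 1], [1, 2, 1, 0, 1, 2, 0, 1, 0, 1], [1, 2, 1, 0, 1, 2, 0, 1, 0, 1], [2, 0, 2]], [[[2], [6, 8, 3, 6, 7, 6, 7], [2, 6, 7, 5, 7, 6, 8, 6, 6], [6, 8, 5, 6, 7, 6, 7], [4]], [[2, 4], [0, 6, 8, 6, 7, 6, 7], [0, 1, 2, 8], [1, 2, 6, 7, 7, 6, 8, 6, 6], [2, 6, 8, 5, 6, 7, 6, 7]], [[0, 1, 2, 4], [6, 7, 3, 7, 6, 8, 6, 6], [2, 6, 8, 5, 6, 7, 6, 7], [4, 6, 8, 3, 6, 7, 6, 7], [0, 4, 6, 7, 7, 6, 8, 6, 6]], [[0, 1, 4, 8], [0, 1, 2, 8], [0, 1, 2, 4], [6, 7, 3, 7, 6, 8, 6, 6], [6, 7, 5, 7, 6, 8, 6, 6]], [[4, 6,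 8, 3, 6, 7, 6, 7], [0, 4, 6, 7, 7, 6, 8, 6, 6], [0, 1], [2, 8], [1, 6, 8, 6, 7, 6, 7]], [[0, 8], [1, 2, 8], [4, 6, 7, 7, 6, 8, 6, 6], [1, 4], [0]], [[0, 6, 7, 7], [2, 6, 7, 6, 6], [2, 6, 7, 6, 6], [0, 6, 7, 7], [2, 6, 7, 6, 6]]]),
  (2, [[1, 0, 2, 1, 0, 1, 2, 1, 2, 1, 2, 1, 0, 2, 0, 1, 1, 2, 1, 0, 1, 2, 0, 1, 0, 1], [2, 0, 2, 1, 2, 1, 0, 1, 2, 0, 1, 0, 1], [2, 0, 2, 1, 2, 1, 0, 1, 2, 0, 1, 0, 1], [2, 1, 2, 1, 0, 1, 2, 1, 0, 1, 2, 1, 2, 1, 2, 1, 0, 1, 2, 0, 1, 0, 1], [0, 1, 2, 0, 2, 1, 0]], [[[2], [0, 1, 4, 8], [6, 8, 5, 6, 7, 6, 7], [1, 4]], [[0, 6, 8, 6, 7, 6, 7], [1, 2, 6, 8, 6, 7, 6, 7], [2, 8], [1, 8]], [[6, 7, 3, 7, 6, 8, 6, 6], [0, 6, 7, 5, 7, 6, 8, 6, 6], [0, 6,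 8, 6, 7, 6, 7], [6, 8, 5, 6, 7, 6, 7]], [[1, 6, 7, 3, 7, 6, 8, 6, 6], [6, 7, 3, 5, 7, 6, 8, 6, 6], [6, 7, 5, 7, 6, 8, 6, 6], [2, 4]], [[0, 4, 6, 8, 6, 7, 6, 7], [0, 1, 6, 8, 6, 7, 6, 7], [1, 6, 8, 6, 7, 6, 7], [0, 1, 2, 4]], [[0, 1], [0, 4, 6, 8, 6, 7, 6, 7], [0, 1, 6, 8, 6, 7, 6, 7], [2, 6, 8, 5, 6, 7, 6, 7]], [[2, 6, 7, 6, 6], [2, 6, 7, 6, 6], [2, 6, 7, 6, 6], [2, 6, 7, 6, 6]]]),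
  (2, [[0, 2, 0, 2, 1, 0, 2, 1, 0, 1, 0, 2, 0, 1, 2, 0, 2, 1, 2, 1, 0, 1, 2, 0, 1, 0, 1], [1, 2, 1, 0, 1, 2, 0, 1, 0, 1], [1, 2, 1, 0, 1, 2, 0, 1, 0, 1], [1, 0, 2, 0, 1, 0, 1, 2, 0, 1, 0, 1, 2, 1, 0, 1, 2, 0, 1, 0, 1], [2, 0, 2, 1, 2, 1, 0, 1, 2, 0, 1, 0, 1], []], [[[0, 2], [2, 6, 7, 7, 6, 8, 6, 6], [0, 6, 8, 5, 6, 7, 6, 7], [1, 8], [1]], [[1, 2, 4, 8], [0, 1, 6, 8, 6, 7, 6, 7], [0, 2, 4, 8], [1, 4], [0]], [[1, 6, 7, 3, 7, 6, 8, 6, 6], [6, 7, 3, 5, 7, 6, 8, 6, 6], [0, 6, 7, 5, 7, 6, 8, 6, 6], [1], [2]], [[2, 6, 7, 7, 6, 8, 6, 6], [0, 6, 8, 5, 6, 7, 6, 7], [0, 4, 8], [0, 1, 6, 8, 6, 7, 6, 7], [1, 6, 8, 6, 7, 6, 7]], [[0, 8], [1, 2, 8], [1, 6, 8, 3, 6, 7, 6, 7], [6, 7, 3,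 5, 7, 6, 8, 6, 6], [6, 7, 5, 7, 6, 8, 6, 6]], [[1], [0, 2], [2, 6, 7, 7, 6, 8, 6, 6], [0, 4, 8], [2, 6, 8, 5, 6, 7, 6, 7]], [[0, 6, 7, 7], [2, 6, 7, 6, 6], [0, 6, 7, 7], [0, 6, 7, 7], [0, 6, 7, 7]]]),
  (2, [[0, 1, 0, 2, 1, 0, 1, 0, 2, 0, 1, 2, 0, 2, 1, 2, 1, 0, 1, 2, 0, 1, 0, 1], [1, 2, 1, 0, 1, 2, 0, 1, 0, 1], [1, 2, 1, 0, 1, 2, 0, 1, 0, 1], [1, 0, 2, 0, 1, 0, 1, 2, 0, 1, 0, 1, 2, 1, 0, 1, 2, 0, 1, 0, 1], [2, 0, 2, 1, 2, 1, 0, 1, 2, 0, 1, 0, 1], [2, 0, 2]], [[[0], [0, 8], [1, 2, 8], [4, 6, 7, 7, 6, 8, 6, 6], [4]], [[1], [0, 2], [2, 6, 7, 7, 6, 8, 6, 6], [0, 4, 8], [2, 6, 8, 5, 6, 7, 6, 7]], [[1, 4], [0], [0, 8], [1, 6, 8, 3, 6, 7, 6, 7], [0, 4, 6, 7, 7, 6, 8, 6, 6]],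 [[0, 8], [1, 2, 8], [1, 6, 8, 3, 6, 7, 6, 7], [6, 7, 3, 5, 7, 6, 8, 6, 6], [6, 7, 5, 7, 6, 8, 6, 6]], [[2, 6, 7, 7, 6, 8, 6, 6], [0, 6, 8, 5, 6, 7, 6, 7], [0, 4, 8], [0, 1, 6, 8, 6, 7, 6, 7], [1, 6, 8, 6, 7, 6, 7]], [[1, 2, 4, 8], [0, 1, 6, 8, 6, 7, 6, 7], [0, 2, 4, 8], [1, 4], [0]], [[2, 6, 7, 6, 6], [0, 6, 7, 7], [2, 6, 7, 6, 6], [2, 6, 7, 6, 6], [2, 6, 7, 6, 6]]]),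
  (2, [[0, 1, 0, 2, 1, 0, 2, 0, 2, 1, 2, 1, 2, 1, 2, 1, 2, 0, 2, 1, 2, 1, 0, 1, 2, 0, 1, 0, 1], [1, 2, 1, 0, 1, 2, 0, 1, 0, 1], [2, 1, 2, 1, 0, 1, 2, 1, 0, 1, 2, 1, 2, 1, 2, 1, 0, 1, 2, 0, 1, 0, 1], [1, 2, 1, 0, 1, 2, 0, 1, 0, 1], [1, 2, 1, 0, 1, 2, 0, 1, 0, 1], []], [[[0, 2], [2, 6, 7, 7, 6, 8, 6, 6], [0, 4, 8], [1, 8], [1]], [[0, 1, 2, 4], [6, 7, 3, 7, 6, 8, 6, 6], [4, 6, 7, 7, 6, 8, 6, 6], [1, 4], [0]], [[2, 4], [0, 6, 8, 6, 7, 6, 7], [6, 8, 5, 6, 7, 6, 7], [4], [2]], [[0, 6, 8, 6, 7, 6, 7], [4, 8], [0, 1], [2, 8], [1, 6, 8, 6, 7, 6, 7]], [[2, 8], [1, 6, 8, 6, 7, 6, 7], [0, 1, 2, 4], [6, 7, 3, 7, 6, 8, 6, 6], [6, 7, 5, 7, 6, 8, 6, 6]], [[0, 4, 6, 8, 6, 7, 6, 7], [2,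 4, 8], [0, 1, 2, 8], [1, 2, 6, 7, 7, 6, 8, 6, 6], [2, 6, 8, 5, 6, 7, 6, 7]], [[2, 6, 7, 6, 6], [0, 6, 7, 7], [0, 6, 7, 7], [2, 6, 7, 6, 6], [0, 6, 7, 7]]]),
  (2, [[2, 1, 0, 2, 0, 2, 1, 0, 2, 1, 0, 2, 1, 2, 0, 1, 1, 2, 1, 0, 1, 2, 0, 1, 0, 1], [2, 0, 2, 1, 2, 1, 0, 1, 2, 0, 1, 0, 1], [2, 0, 2, 1, 2, 1, 0, 1, 2, 0, 1, 0, 1], [2, 1, 2, 1, 0, 1, 2, 1, 0, 1, 2, 1, 2, 1, 2, 1, 0, 1, 2, 0, 1, 0, 1], [2, 0, 2, 1, 0, 2, 1, 2, 0, 1]], [[[2], [0, 1, 4, 8], [6, 8, 5, 6, 7, 6, 7], [1, 4]], [[2, 4], [1, 2, 4, 8], [2, 4, 8], [0, 1, 2, 8]], [[0, 1, 2, 4], [1, 6, 7, 3, 7, 6, 8, 6, 6], [6, 7, 3, 5, 7, 6, 8, 6, 6], [0, 4, 6, 7, 7, 6, 8, 6, 6]], [[0, 1, 4, 8], [6, 8, 5, 6, 7, 6, 7], [1,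 4], [0]], [[4, 6, 8, 3, 6, 7, 6, 7], [4, 6, 7, 7, 6, 8, 6, 6], [4], [0, 2]], [[0, 8], [0, 6, 8, 5, 6, 7, 6, 7], [1, 6, 8, 3, 6, 7, 6, 7], [6, 7, 5, 7, 6, 8, 6, 6]], [[0, 6, 7, 7], [0, 6, 7, 7], [0, 6, 7, 7], [0, 6, 7, 7]]]),
  (2, [[0, 1, 2, 1, 0, 1, 2, 1, 0, 2, 0, 1, 2, 1, 0, 1, 2, 1, 0, 1, 2, 1, 0, 1, 2, 0, 1, 0, 1], [2, 1, 2, 1, 0, 1, 2, 1, 0, 1, 2, 1, 2, 1, 2, 1, 0, 1, 2, 0, 1, 0, 1], [2, 0, 2, 1, 2, 1, 0, 1, 2, 0, 1, 0, 1], [1, 0, 2, 0, 1, 0, 1, 2, 0, 1, 0, 1, 2, 1, 0, 1, 2, 0, 1, 0, 1], []], [[[0, 2], [6, 7, 3, 7, 6, 8, 6, 6], [0, 6, 7, 5, 7, 6, 8, 6, 6], [1]], [[2, 8], [1, 8], [1], [0]], [[6, 7, 3, 7, 6, 8, 6, 6], [4, 6, 7, 7, 6, 8, 6, 6], [4], [2]], [[1], [2],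 [0, 1, 4, 8], [1, 6, 8, 6, 7, 6, 7]], [[1, 4], [0], [4, 6, 8, 3, 6, 7, 6, 7], [6, 7, 5, 7, 6, 8, 6, 6]], [[1, 2, 6, 7, 7, 6, 8, 6, 6], [0, 2, 4, 8], [6, 7, 3, 7, 6, 8, 6, 6], [2, 6, 8, 5, 6, 7, 6, 7]], [[0, 6, 7, 7], [0, 6, 7, 7], [0, 6, 7, 7], [0, 6, 7, 7]]])]

end Cfsg.Agent.M24Recog.RelData
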