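import Cfsg.Agent.Lib.M24Recog.Local
import Cfsg.Agent.Lib.M24Recog.RelData
import Cfsg.Agent.Lib.M24Recog.Cert
import Cfsg.Agent.Lib.Golay.Suborbits
import Cfsg.Agent.S0365

/-!
# Recognition of `M₂₄` from the octad stabiliser and the swap

* `exists_equiv`: an embedding of the octad stabiliser with `Hyp`, and the order, give an isomorphism.
-/

set_option autoImplicit false
set_option maxRecDepth 100000
set_option linter.style.haveILetI false

namespace Cfsg.Agent.M24Recog

open Cfsg Subgroup Cfsg.Agent.CosetCert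
open Cfsg.Agent.Golay.M24 (tabAt)
open scoped Pointwise

/-- The relator as one word. -/
def joinS : List (List ℕ) → List ℕ
  | [] => []
  | [a] => a
  | a :: b :: l => a ++ 3 :: joinS (b :: l)

/-- The word of a generator of the group of order `10752`. -/
def jword (k : ℕ) : List ℕ := bif Nat.blt k 6 then wword (2 ^ k) else Data.kWords.getD (k - 6) []

/-- The word of an element. -/
def jflat (u : List ℕ) : List ℕ := (u.map jword).flatten

/-- The generators of the local group with a given number. -/
def xGens (i : ℕ) : List (List ℕ) :=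
  bif Nat.beq i 1 then (List.range 9).map jword else Data.xWords

/-- Following an element along a relator. -/
def segsOK (k0 : List ℕ) : List (List ℕ) → List ℕ → List (List ℕ) → Bool
  | [a], cur, [] => Nat.beq (evalT (a.reverse ++ cur ++ a)) (evalT k0)
  | a :: b :: l, cur, u :: us => u.all (fun k => Nat.blt k 9) &&
      Nat.beq (evalT (a.reverse ++ cur ++ a)) (evalT (jflat u)) && segsOK k0 (b :: l) (jflat (u.map jsw)) us
  | _, _, _ => false

/-- The four tables. -/
def mT (k : ℕ) : ℕ := bif Nat.beq k 3 then Data.sT else gT k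

/-- The image of an index under a relator, first letter first. -/
def runM : List ℕ → ℕ → ℕ
  | [], i => i
  | y :: w, i => runM w (tabAt (mT y) i)

/-- The check of a relator. -/
def relOK (r : ℕ × List (List ℕ) × List (List (List ℕ))) : Bool :=
  Nat.beq (enc (runM (joinS r.2.1))) idT && (r.2.1.all fun a => a.all fun k => Nat.blt k 3) &&
    bif Nat.beq r.1 0 then Nat.beq r.2.1.length 1
    else Nat.beq r.2.2.length (xGens r.1).length &&
      ((List.zip (xGens r.1) r.2.2).all fun p => segsOK p.1 r.2.1 p.1 p.2)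

theorem rels_check : RelData.rels.all relOK = true := by decide +kernel

theorem words_eq : CertData.words = [[0, 0], [1, 1], [2, 2], [3, 3]] ++ RelData.rels.map fun r => joinS r.2.1 := by
  decide +kernel

/-- The centraliser check of a local group. -/
def centX (l : List ℕ) (n : ℕ) : Bool := l.all fun t => Nat.beq (mulT (tT n) t) (mulT t (tT n))

theorem xGens_check : ∀ i, i = 1 ∨ i = 2 →
    evalT ((xGens i).getD 0 []) = wT 1 ∧ evalT ((xGens i).getD 1 []) = wT 2 ∧ 2 ≤ (xGens i).length := by
  rintro i (rfl | rfl) <;> decide +kernel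

theorem cent_x_check : allB (fun n => Nat.beq n 0 || !centX (Data.xWords.map evalT) n) 1536 = true := by decide +kernel

theorem jT_map : ((List.range 9).map jT) = ((List.range 9).map jword).map evalT := by decide +kernel

theorem eq_zero_of_cent {i n : ℕ} (hi : i = 1 ∨ i = 2) (hn : n < 1536)
    (h : ∀ w ∈ xGens i, tel n * pe w = pe w * tel n) : n = 0 := by
  have key : ∀ t ∈ (xGens i).map evalT, mulT (tT n) t = mulT t (tT n) := by
    intro t ht
    obtain ⟨w, hw, rfl⟩ := List.mem_map.1 ht
    rw [← pcode_pe, ← pcode_tel hn, ← pcode_mul, ← pcode_mul, h w hw]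
  rcases hi with rfl | rfl
  · have hc := allB_spec cent_j_check n hn
    simp only [Bool.or_eq_true, Bool.not_eq_true'] at hc
    rcases hc with hc | hc
    · exact Nat.eq_of_beq_eq_true hc
    · refine absurd hc ?_
      have key' : ∀ k < 9, mulT (tT n) (jT k) = mulT (jT k) (tT n) := fun k hk => by
        refine key _ ?_
        show jT k ∈ ((List.range 9).map jword).map evalT
        rw [← jT_map]
        exact List.mem_map.2 ⟨k, List.mem_range.2 hk, rfl⟩
      simp only [allB, key', show (0 : ℕ) < 9 by norm_num, show (1 : ℕ) < 9 by norm_num, show (2 : ℕ) < 9 by norm_num,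
        show (3 : ℕ) < 9 by norm_num, show (4 : ℕ) < 9 by norm_num, show (5 : ℕ) < 9 by norm_num,
        show (6 : ℕ) < 9 by norm_num, show (7 : ℕ) < 9 by norm_num, show (8 : ℕ) < 9 by norm_num, Nat.beq_refl,
        Bool.and_self, Bool.true_eq_false, not_false_eq_true]
  · have hc := allB_spec cent_x_check n hn
    simp only [Bool.or_eq_true, Bool.not_eq_true'] at hc
    rcases hc with hc | hc
    · exact Nat.eq_of_beq_eq_true hc
    · refine absurd hc ?_
      have : centX (Data.xWords.map evalT) n = true :=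
        List.all_eq_true.2 fun t ht => by rw [key t ht]; exact Nat.beq_refl _
      rw [this]
      simp

theorem jgen_eq_pe (k : ℕ) : jgen k = pe (jword k) := by
  rw [jgen, jword]
  cases Nat.blt k 6 <;> rfl

theorem jel_eq_pe : ∀ u : List ℕ, jel u = pe (jflat u)
  | [] => rfl
  | k :: u => by
    rw [jel, jgen_eq_pe, jel_eq_pe u, ← pe_append]
    rfl

theorem wprod_append' {A : Type*} [Group A] (g : ℕ → A) : ∀ u v : List ℕ, wprod g (u ++ v) = wprod g v * wprod g u
  | [], v => by rw [List.nil_append]; exact (mul_one _).symm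
  | y :: u, v => by rw [List.cons_append, wprod, wprod, wprod_append' g u v, mul_assoc]

/-- The generators of `M₂₄` used by the table. -/
def gM : ℕ → ↥M24
  | 3 => s0
  | k => ((gp k : ↥P1) : ↥M24)

theorem mcode_gM (k : ℕ) : mcode (gM k) = mT k := by
  unfold gM
  split
  · exact mcode_s0
  · next h => rw [mT, show Nat.beq k 3 = false from Bool.eq_false_iff.2 fun e => h (Nat.eq_of_beq_eq_true e)]; exact pcode_gp k

theorem ix_wprod (w : List ℕ) : ∀ p : GolayPt,
    Cfsg.Agent.Golay.Basic.ix ((wprod gM w).1 p) = runM w (Cfsg.Agent.Golay.Basic.ix p) := by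
  induction w with
  | nil => intro p; rfl
  | cons y w ih =>
    intro p
    have e : (wprod gM (y :: w)).1 p = (wprod gM w).1 ((gM y).1 p) := rfl
    rw [e, ih, runM]
    congr 1
    rw [← mcode_gM, mcode, tabAt_code _ (Cfsg.Agent.Golay.Basic.ix_lt p), Cfsg.Agent.Golay.Basic.pt_ix]

theorem mcode_wprod (w : List ℕ) : mcode (wprod gM w) = enc (runM w) :=
  enc_congr (f := fun i => Cfsg.Agent.Golay.Basic.ix ((wprod gM w).1 (Cfsg.Agent.Golay.Basic.pt i))) (g := runM w)
    fun i hi => (ix_wprod w _).trans (congrArg (runM w) (Cfsg.Agent.Golay.Basic.ix_pt hi))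

variable {G : Type*} [Group G] {φ : ↥P1 →* G}

/-- The generators in the group. -/
def gG (φ : ↥P1 →* G) (s : G) : ℕ → G
  | 3 => s
  | k => φ (gp k)

theorem gG_lt (s : G) {k : ℕ} (hk : k < 3) : gG φ s k = φ (gp k) := by
  unfold gG
  split
  · omega
  · rfl

theorem gG_sq {s : G} (hs : s * s = 1) (k : ℕ) : gG φ s k * gG φ s k = 1 := by
  unfold gG
  split
  · exact hs
  · rw [← map_mul, gp_sq, map_one]

theorem wprod_seg (s : G) : ∀ a : List ℕ, (∀ k ∈ a, k < 3) → wprod (gG φ s) a = φ (pe a.reverse)
  | [], _ => (map_one φ).symm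
  | y :: a, h => by
    rw [List.reverse_cons, pe_append, wprod, wprod_seg s a fun k hk => h k (List.mem_cons_of_mem _ hk),
      gG_lt s (h y List.mem_cons_self), pe, pe, mul_one, map_mul]

theorem seg_conj (s : G) (a cur : List ℕ) (ha : ∀ k ∈ a, k < 3) :
    wprod (gG φ s) a * φ (pe cur) * (wprod (gG φ s) a)⁻¹ = φ (pe (a.reverse ++ cur ++ a)) := by
  rw [wprod_seg s a ha, ← map_inv, pe_inv, List.reverse_reverse, ← map_mul, ← map_mul, pe_append, pe_append]

theorem jswap_el {s : G} (hs : ∀ k < 9, s * φ (jgen k) * s⁻¹ = φ (jgen (jsw k))) :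
    ∀ u : List ℕ, (∀ k ∈ u, k < 9) → s * φ (jel u) * s⁻¹ = φ (jel (u.map jsw))
  | [], _ => by simp [jel]
  | k :: u, h => by
    rw [List.map_cons, jel, jel, map_mul, map_mul, ← conj_mul, hs k (h k List.mem_cons_self),
      jswap_el hs u fun i hi => h i (List.mem_cons_of_mem _ hi)]

theorem segsOK_cons {k0 a b cur : List ℕ} {l : List (List ℕ)} {ws : List (List ℕ)}
    (h : segsOK k0 (a :: b :: l) cur ws = true) : ∃ u us, ws = u :: us ∧ (∀ k ∈ u, k < 9) ∧
      evalT (a.reverse ++ cur ++ a) = evalT (jflat u) ∧ segsOK k0 (b :: l) (jflat (u.map jsw)) us = true := by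
  cases ws with
  | nil => exact absurd h (by simp [segsOK])
  | cons u us =>
    simp only [segsOK, Bool.and_eq_true] at h
    exact ⟨u, us, rfl, fun k hk => by simpa [Nat.blt] using List.all_eq_true.1 h.1.1 k hk,
      Nat.eq_of_beq_eq_true h.1.2, h.2⟩

theorem segsOK_last {k0 a cur : List ℕ} {ws : List (List ℕ)} (h : segsOK k0 [a] cur ws = true) :
    evalT (a.reverse ++ cur ++ a) = evalT k0 := by
  cases ws with
  | nil => simp only [segsOK] at h; exact Nat.eq_of_beq_eq_true h
  | cons u us => exact absurd h (by simp [segsOK])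

theorem joinS_cons (a b : List ℕ) (l : List (List ℕ)) : joinS (a :: b :: l) = a ++ 3 :: joinS (b :: l) := rfl

theorem gG_three (s : G) : gG φ s 3 = s := rfl

theorem wprod_join (s : G) (a b : List ℕ) (l : List (List ℕ)) : wprod (gG φ s) (joinS (a :: b :: l)) =
    wprod (gG φ s) (joinS (b :: l)) * s * wprod (gG φ s) a := by
  rw [joinS_cons, wprod_append', wprod, gG_three]

theorem segs_sound {s : G} (hs : ∀ k < 9, s * φ (jgen k) * s⁻¹ = φ (jgen (jsw k))) {k0 : List ℕ}
    (segs : List (List ℕ)) : ∀ (cur : List ℕ) (ws : List (List ℕ)), (∀ a ∈ segs, ∀ k ∈ a, k < 3) →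
      segsOK k0 segs cur ws = true →
      wprod (gG φ s) (joinS segs) * φ (pe cur) * (wprod (gG φ s) (joinS segs))⁻¹ = φ (pe k0) := by
  induction segs with
  | nil => intro cur ws _ h; exact absurd h (by simp [segsOK])
  | cons a t ih =>
    intro cur ws hl h
    cases t with
    | nil =>
      have e := congrArg φ (pe_eq (segsOK_last h))
      exact (seg_conj s a cur (hl a List.mem_cons_self)).trans e
    | cons b l =>
      obtain ⟨u, us, rfl, hu, hcur, hrest⟩ := segsOK_cons h
      have h1 : wprod (gG φ s) a * φ (pe cur) * (wprod (gG φ s) a)⁻¹ = φ (pe (jflat u)) :=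
        (seg_conj s a cur (hl a List.mem_cons_self)).trans (congrArg φ (pe_eq hcur))
      have h2 : s * φ (pe (jflat u)) * s⁻¹ = φ (pe (jflat (u.map jsw))) := by
        rw [← jel_eq_pe, ← jel_eq_pe]
        exact jswap_el hs u hu
      have h3 := ih (jflat (u.map jsw)) us (fun c hc => hl c (List.mem_cons_of_mem _ hc)) hrest
      rw [wprod_join, ← h3, ← h2, ← h1]
      simp only [mul_inv_rev, mul_assoc]

variable (H : Hyp φ)
include H

theorem relator_one {s : G} (hs : ∀ k < 9, s * φ (jgen k) * s⁻¹ = φ (jgen (jsw k))) (hss : s * s = 1)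
    {w : List ℕ} (hw : w ∈ CertData.words) : wprod gM w = 1 ∧ wprod (gG φ s) w = 1 := by
  rw [words_eq, List.mem_append] at hw
  rcases hw with hw | hw
  · have hq : ∀ k, wprod gM [k, k] = gM k * gM k ∧ wprod (gG φ s) [k, k] = gG φ s k * gG φ s k := fun k =>
      ⟨by simp [wprod], by simp [wprod]⟩
    have hM : ∀ k < 4, gM k * gM k = 1 := fun k hk => by
      interval_cases k
      exacts [g0_sq, g1_sq, g2_sq, s0_sq]
    simp only [List.mem_cons, List.not_mem_nil, or_false] at hw
    rcases hw with rfl | rfl | rfl | rfl <;>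
      exact ⟨(hq _).1.trans (hM _ (by norm_num)), (hq _).2.trans (gG_sq hss _)⟩
  · obtain ⟨⟨i, segs, wits⟩, hr, rfl⟩ := List.mem_map.1 hw
    have h := List.all_eq_true.1 rels_check _ hr
    simp only [relOK, Bool.and_eq_true] at h
    obtain ⟨⟨hM, hlet⟩, hrest⟩ := h
    have hM1 : wprod gM (joinS segs) = 1 := mcode_injective <| by
      rw [mcode_wprod, mcode_one]; exact Nat.eq_of_beq_eq_true hM
    have hl : ∀ a ∈ segs, ∀ k ∈ a, k < 3 := fun a ha k hk => by
      simpa [Nat.blt] using List.all_eq_true.1 (List.all_eq_true.1 hlet a ha) k hk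
    refine ⟨hM1, ?_⟩
    cases hi0 : Nat.beq i 0
    · rw [hi0, cond_false, Bool.and_eq_true] at hrest
      obtain ⟨hlen, hz⟩ := hrest
      have hlen' := Nat.eq_of_beq_eq_true hlen
      have key : ∀ g ∈ xGens i, wprod (gG φ s) (joinS segs) * φ (pe g) * (wprod (gG φ s) (joinS segs))⁻¹ =
          φ (pe g) := by
        intro g hg
        obtain ⟨j, hj, rfl⟩ := List.getElem_of_mem hg
        refine segs_sound hs segs _ (wits[j]'(by rw [hlen']; exact hj)) hl ?_
        have hjw : j < wits.length := by rw [hlen']; exact hj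
        have hmem : ((xGens i)[j], wits[j]'hjw) ∈ (xGens i).zip wits := by
          have hjz : j < ((xGens i).zip wits).length := by rw [List.length_zip]; omega
          rw [show ((xGens i)[j], wits[j]'hjw) = ((xGens i).zip wits)[j]'hjz from List.getElem_zip.symm]
          exact List.getElem_mem _
        exact List.all_eq_true.1 hz _ hmem
      have hi : i = 1 ∨ i = 2 := by
        by_contra hne
        have : RelData.rels.all (fun r => Nat.ble r.1 2) = true := by decide +kernel
        have h2 : i ≤ 2 := Nat.le_of_ble_eq_true (List.all_eq_true.1 this _ hr)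
        have h0 : i ≠ 0 := fun e => by rw [e] at hi0; exact absurd hi0 (by decide)
        omega
      obtain ⟨e0, e1, hlen2⟩ := xGens_check i hi
      have hmem : ∀ j, j < 2 → (xGens i).getD j [] ∈ xGens i := fun j hj => by
        rw [List.getD_eq_getElem _ _ (by omega)]; exact List.getElem_mem _
      have hz0 : pe ((xGens i).getD 0 []) = z0 := pcode_injective (by rw [pcode_pe, e0, pcode_z0])
      have hx0 : pe ((xGens i).getD 1 []) = x0 := pcode_injective (by rw [pcode_pe, e1, pcode_x0])
      obtain ⟨n, hn, en⟩ := H.exists_tel' (g := wprod (gG φ s) (joinS segs))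
        (hz0 ▸ mul_inv_eq_iff_eq_mul.1 (key _ (hmem 0 (by norm_num))))
        (hx0 ▸ mul_inv_eq_iff_eq_mul.1 (key _ (hmem 1 (by norm_num))))
      have hn0 : n = 0 := eq_zero_of_cent hi hn fun g hg => H.inj (by
        rw [map_mul, map_mul, ← en]; exact mul_inv_eq_iff_eq_mul.1 (key g hg))
      rw [en, hn0, tel_zero, map_one]
    · rw [hi0, cond_true] at hrest
      obtain ⟨a, rfl⟩ := List.length_eq_one_iff.1 (Nat.eq_of_beq_eq_true hrest)
      have ha := hl a List.mem_cons_self
      rw [joinS, wprod_seg s a ha]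
      rw [show pe a.reverse = 1 from Subtype.ext ?_, map_one]
      have e : ∀ b : List ℕ, (∀ k ∈ b, k < 3) → ((pe b.reverse : ↥P1) : ↥M24) = wprod gM b := by
        intro b
        induction b with
        | nil => intro _; rfl
        | cons y b ih =>
          intro hb
          have hy : gM y = ((gp y : ↥P1) : ↥M24) := by
            have := hb y List.mem_cons_self
            interval_cases y <;> rfl
          rw [List.reverse_cons, pe_append, Subgroup.coe_mul, ih fun k hk => hb k (List.mem_cons_of_mem _ hk),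
            wprod, hy, pe, pe, mul_one]
      rw [e a ha, ← joinS.eq_2 a, hM1]
      rfl

/-- **Recognition of `M₂₄`.** -/
theorem exists_equiv [Finite G] (hcard : Nat.card G = 244823040) : Nonempty (G ≃* ↥M24) := by
  obtain ⟨s, hs, hss⟩ := H.exists_swap
  let gp4 : ℕ → ↥M24 × G := fun k => if k < 4 then (gM k, gG φ s k) else 1
  have hgp : ∀ w : List ℕ, (∀ k ∈ w, k < 4) → wprod gp4 w = (wprod gM w, wprod (gG φ s) w) := by
    intro w
    induction w with
    | nil => intro _; rfl
    | cons y w ih =>
      intro hy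
      rw [wprod, wprod, wprod, ih fun k hk => hy k (List.mem_cons_of_mem _ hk),
        show gp4 y = (gM y, gG φ s y) from if_pos (hy y List.mem_cons_self)]
      rfl
  have hsq : ∀ k, gp4 k * gp4 k = 1 := by
    intro k
    simp only [gp4]
    split
    · next hk =>
      refine Prod.ext ?_ (gG_sq hss k)
      show gM k * gM k = 1
      interval_cases k
      exacts [g0_sq, g1_sq, g2_sq, s0_sq]
    · exact one_mul 1
  have hlW : allLettersOK 4 CertData.words = true := by decide +kernel
  have hW : ∀ w ∈ CertData.words, wprod gp4 w = 1 := fun w hw => by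
    rw [hgp w (allLettersOK_spec hlW w hw), (relator_one H hs hss hw).1, (relator_one H hs hss hw).2]
    rfl
  let γ : ↥P1 →* ↥M24 × G := P1.subtype.prod φ
  set sub := Subgroup.closure (wprod gp4 '' {w | w ∈ CertData.subs}) with hsub
  have hsuble : sub ≤ γ.range := by
    refine (closure_le _).2 ?_
    rintro _ ⟨w, hw, rfl⟩
    have hk : ∀ k < 3, wprod gp4 [k] ∈ γ.range := fun k hk => ⟨gp k, by
      rw [hgp [k] (by simp; omega)]
      have : gM k = ((gp k : ↥P1) : ↥M24) := by interval_cases k <;> rfl
      simp [γ, wprod, this, gG_lt s hk]⟩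
    simp only [CertData.subs, Set.mem_setOf_eq, List.mem_cons, List.not_mem_nil, or_false] at hw
    rcases hw with rfl | rfl | rfl
    exacts [hk 0 (by norm_num), hk 1 (by norm_num), hk 2 (by norm_num)]
  have hB : Bdd sub 322560 := by
    refine ⟨inferInstance, (Subgroup.card_le_of_le hsuble).trans ?_⟩
    rw [← card_P1]
    exact Nat.card_le_card_of_surjective γ.rangeRestrict γ.rangeRestrict_surjective
  set top := Subgroup.closure (gp4 '' {x | x < 4}) with htop
  have hT : Bdd top (759 * 322560) :=
    Bdd.step CertData.closed gp4 hsq hW (by decide +kernel) htop hsub hlW hB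
  -- the projection
  have hfst : top.map (MonoidHom.fst ↥M24 G) = ⊤ := by
    have hmem : ∀ k < 4, gM k ∈ top.map (MonoidHom.fst ↥M24 G) := fun k hk =>
      ⟨gp4 k, subset_closure ⟨k, hk, rfl⟩, by simp [gp4, hk]⟩
    have hle : P1 ≤ top.map (MonoidHom.fst ↥M24 G) := by
      refine (closure_le _).2 ?_
      rintro _ (rfl | rfl | rfl)
      exacts [hmem 0 (by norm_num), hmem 1 (by norm_num), hmem 2 (by norm_num)]
    refine (Cfsg.Agent.Golay.Suborbits.isCoatom_octad oct0_mem).2 _ (lt_of_le_of_ne (P1_eq ▸ hle) fun e => ?_)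
    have h3 := hmem 3 (by norm_num)
    rw [← e, MulAction.mem_stabilizer_iff] at h3
    revert h3
    decide +kernel
  haveI := hT.1
  let π : ↥top →* ↥M24 := (MonoidHom.fst ↥M24 G).comp top.subtype
  have hπs : Function.Surjective π := fun m => by
    obtain ⟨p, hp, rfl⟩ : m ∈ top.map (MonoidHom.fst ↥M24 G) := by rw [hfst]; exact mem_top _
    exact ⟨⟨p, hp⟩, rfl⟩
  have hπ : Function.Bijective π := by
    refine (Nat.bijective_iff_surjective_and_card π).2 ⟨hπs, le_antisymm ?_ (Nat.card_le_card_of_surjective π hπs)⟩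
    rw [Cfsg.Agent.Golay.M24.card_M24]
    exact hT.2
  let E : ↥top ≃* ↥M24 := MulEquiv.ofBijective π hπ
  let ψ : ↥M24 →* G := ((MonoidHom.snd ↥M24 G).comp top.subtype).comp E.symm.toMonoidHom
  haveI : IsSimpleGroup ↥M24 := Cfsg.Agent.S0365.result
  have hker : ψ.ker = ⊥ := by
    refine ((MonoidHom.normal_ker ψ).eq_bot_or_eq_top).resolve_right fun hk => ?_
    have := MonoidHom.mem_ker.1 (hk ▸ mem_top (E ⟨gp4 0, subset_closure ⟨0, by norm_num, rfl⟩⟩))
    have e : φ (gp 0) = 1 := by
      simpa [ψ, gp4, gG] using this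
    have e' : pcode (gp 0) = idT := by rw [H.inj (e.trans (map_one φ).symm), pcode_one]
    rw [pcode_gp] at e'
    exact absurd e' (by decide +kernel)
  have hψ : Function.Bijective ψ := by
    have hinj := (MonoidHom.ker_eq_bot_iff ψ).1 hker
    exact (Nat.bijective_iff_injective_and_card ψ).2 ⟨hinj, by rw [Cfsg.Agent.Golay.M24.card_M24, hcard]⟩
  exact ⟨(MulEquiv.ofBijective ψ hψ).symm⟩

end Cfsg.Agent.M24Recog
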